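import Mathlib
import Cfsg.Agent.H394.SqPsl2
import Cfsg.Agent.H278.ElDefs
import Cfsg.Agent.Lib.Zsigmondy

/-!
# TEAM ELUSIVE, rank one: `PSL₂(q)` (helper947, task 647)

* `psl2_aux` : a proper subgroup of `PSL₂(q)`, `q ≥ 4`, misses an `Aut`-class of elements of prime order, unless `q = 9`
  and the subgroup is `A₅`.
-/

set_option autoImplicit false
set_option linter.style.haveILetI false

namespace Cfsg.Agent.H947.El

open MulAction Subgroup Cfsg Cfsg.Agent.H396 Cfsg.Agent.H394.SqPsl2 Cfsg.Agent.H394.SqBasic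

/-- a prime power `q ≥ 4` with `q (q² - 1)` divisible by no prime `> 5` -/
theorem eq_of_primes {p N q : ℕ} (hp : p.Prime) (hN : q = p ^ N) (h4 : 4 ≤ q)
    (h : ∀ r : ℕ, r.Prime → r ∣ q ∨ r ∣ q ^ 2 - 1 → r = 2 ∨ r = 3 ∨ r = 5) : q = 4 ∨ q = 5 ∨ q = 9 := by
  have hN0 : N ≠ 0 := by rintro rfl; rw [pow_zero] at hN; omega
  have hpq : p ∣ q := hN ▸ dvd_pow_self p hN0
  have hp235 := h p hp (Or.inl hpq)
  rcases Nat.lt_or_ge N 2 with hN1 | hN2
  · have hN1' : N = 1 := by omega
    rw [hN1', pow_one] at hN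
    omega
  · by_cases h8 : p = 2 ∧ N = 3
    · exfalso
      obtain ⟨rfl, rfl⟩ := h8
      have := h 7 (by norm_num) (Or.inr (by rw [hN]; norm_num))
      omega
    · obtain ⟨r, hr, hr1, hr2, hr3⟩ := Cfsg.Agent.Lib.Zsigmondy.exists_primitive (a := p) (n := 2 * N) hp.two_le
        (by omega) (by omega) (by rintro ⟨rfl, h6⟩; exact h8 ⟨rfl, by omega⟩)
      have hrd : r ∣ q ^ 2 - 1 := by
        rw [hN, ← pow_mul]
        exact (hr1 _).2 (by rw [mul_comm])
      have hr235 := h r hr (Or.inr hrd)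
      have hle : 2 * N ≤ r - 1 := Nat.le_of_dvd (by have := hr.two_le; omega) hr2
      have hN2' : N = 2 := by omega
      have hr5 : r = 5 := by omega
      have hp5 : p ≠ 5 := by rintro rfl; exact hr3 (by rw [hr5])
      rw [hN2'] at hN
      rcases hp235 with rfl | rfl | rfl
      · left; rw [hN]; norm_num
      · right; right; rw [hN]; norm_num
      · exact absurd rfl hp5

theorem psl2_aux {F : Type*} [Field F] [Fintype F] (h4 : 4 ≤ Fintype.card F)
    (M : Subgroup (Matrix.ProjectiveSpecialLinearGroup (Fin 2) F)) (hM : M ≠ ⊤) :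
    Der (Matrix.ProjectiveSpecialLinearGroup (Fin 2) F) M ∨
      (Fintype.card F = 9 ∧ Nonempty (M ≃* alternatingGroup (Fin 5))) := by
  classical
  obtain ⟨q, hq⟩ : ∃ q, Fintype.card F = q := ⟨_, rfl⟩
  obtain ⟨p, hchar⟩ := CharP.exists F
  have hp : Fact p.Prime := ⟨CharP.char_is_prime F p⟩
  obtain ⟨N, hpN, hN⟩ := FiniteField.card F p
  have hcard := card_psl (F := F)
  have : Finite (Matrix.ProjectiveSpecialLinearGroup (Fin 2) F) := Quotient.finite _
  by_contra hcon
  rw [not_or] at hcon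
  obtain ⟨hD, hA6⟩ := hcon
  have hidx0 : M.index ≠ 0 := index_ne_zero_of_finite
  have hall : ∀ r : ℕ, r.Prime → r ∣ Nat.card (Matrix.ProjectiveSpecialLinearGroup (Fin 2) F) →
      r ∣ Nat.card M := fun r hr h => prime_dvd_card_of_not_der hD hr h
  have hmul := M.card_mul_index
  have hidx1 : M.index ≠ 1 := fun h => hM (index_eq_one.1 h)
  have hTpos : 0 < Nat.card (Matrix.ProjectiveSpecialLinearGroup (Fin 2) F) := Nat.card_pos
  have hMpos : 0 < Nat.card M := Nat.card_pos
  have hdick := Cfsg.Agent.S0799.result hq p M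
  have hindN := fun P => Cfsg.Agent.H436.TT.index_normalizer (F := F) p P
  rw [hq] at hcard h4 hN
  have hpq : p ∣ q := by rw [hN]; exact dvd_pow_self p N.2.ne'
  obtain ⟨d, hd⟩ : ∃ d, Nat.gcd 2 (q - 1) = d := ⟨_, rfl⟩
  rw [hd] at hcard hdick
  have hd2 : d ∣ 2 := hd ▸ Nat.gcd_dvd_left _ _
  have hdpos : 0 < d := Nat.pos_of_dvd_of_pos hd2 (by norm_num)
  have hdle : d ≤ 2 := Nat.le_of_dvd (by norm_num) hd2
  obtain ⟨t, ht⟩ : ∃ t, Nat.card (Matrix.ProjectiveSpecialLinearGroup (Fin 2) F) = t := ⟨_, rfl⟩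
  obtain ⟨μ, hμ⟩ : ∃ μ, Nat.card M = μ := ⟨_, rfl⟩
  obtain ⟨ι, hι⟩ : ∃ ι, M.index = ι := ⟨_, rfl⟩
  rw [ht] at hcard hall hmul hTpos
  rw [hμ] at hall hmul hMpos
  rw [hι] at hmul hidx0 hidx1
  have hfac := sub_mul_self (q := q) (by omega)
  rw [hfac] at hcard
  -- odd primes dividing `q ^ 2 - 1`, and `p`
  have hodd : ∀ r : ℕ, r.Prime → r ≠ 2 → r ∣ (q + 1) * (q - 1) → r ∣ μ := by
    intro r hr hr2 hrd
    apply hall r hr
    have h1 : r ∣ d * t := by rw [hcard]; exact hrd.mul_left q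
    rcases hr.dvd_mul.1 h1 with h2 | h2
    · exact absurd ((Nat.prime_dvd_prime_iff_eq hr Nat.prime_two).1 (h2.trans hd2)) hr2
    · exact h2
  have hpμ : p ∣ μ := by
    apply hall p hp.out
    have h1 : p ∣ d * t := by rw [hcard]; exact hpq.mul_right _
    rcases hp.out.dvd_mul.1 h1 with h2 | h2
    · exfalso
      have h3 : p ∣ q - 1 := h2.trans (hd ▸ Nat.gcd_dvd_right _ _)
      have h5 : p ∣ q - (q - 1) := Nat.dvd_sub hpq h3
      rw [Nat.sub_sub_self (by omega)] at h5
      exact hp.out.one_lt.ne' (Nat.dvd_one.1 h5)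
    · exact h2
  have hp1 : ¬ p ∣ q + 1 := fun h => hp.out.one_lt.ne' (Nat.dvd_one.1 ((Nat.dvd_add_right hpq).1 h))
  have hp2 : ¬ p ∣ q - 1 := by
    intro h3
    have h5 : p ∣ q - (q - 1) := Nat.dvd_sub hpq h3
    rw [Nat.sub_sub_self (by omega)] at h5
    exact hp.out.one_lt.ne' (Nat.dvd_one.1 h5)
  -- `q` even : `p = 2`
  have hpow : ∀ r : ℕ, r.Prime → r ∣ q → r = p := fun r hr h =>
    (Nat.prime_dvd_prime_iff_eq hr hp.out).1 (hr.dvd_of_dvd_pow (hN ▸ h))
  have h235 : (∀ r : ℕ, r.Prime → r ∣ μ → r = 2 ∨ r = 3 ∨ r = 5) → (q = 4 ∨ q = 5 ∨ q = 9) ∧ 5 ∣ μ := by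
    intro h
    have h1 : q = 4 ∨ q = 5 ∨ q = 9 := by
      refine eq_of_primes hp.out hN h4 (fun r hr hrd => ?_)
      rcases hrd with hrd | hrd
      · rw [hpow r hr hrd]
        exact h p hp.out hpμ
      · by_cases hr2 : r = 2
        · exact Or.inl hr2
        · exact h r hr (hodd r hr hr2 (by rw [← hfac]; exact hrd))
    refine ⟨h1, ?_⟩
    rcases h1 with rfl | rfl | rfl
    · exact hodd 5 (by norm_num) (by norm_num) (by norm_num)
    · have : p = 5 := ((Nat.prime_dvd_prime_iff_eq hp.out Nat.prime_five).1 hpq)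
      rw [← this]; exact hpμ
    · exact hodd 5 (by norm_num) (by norm_num) (by norm_num)
  rcases hdick with ⟨k, hk, hk'⟩ | ⟨P, K, hK, ⟨e⟩⟩ | ⟨⟨e⟩⟩ | ⟨⟨e⟩⟩ | ⟨⟨e⟩⟩ | ⟨K, iK, iK', m, hm, he⟩
  · -- cyclic and dihedral groups
    have hμk : μ ∣ 2 * k := by
      rcases hk' with ⟨-, h⟩ | ⟨⟨e⟩⟩
      · rw [← hμ, h]; exact Dvd.intro_left 2 rfl
      · rw [← hμ, Nat.card_congr e.toEquiv, DihedralGroup.nat_card]
    have hkd : k ∣ q + 1 ∨ k ∣ q - 1 := by
      rcases hk with h | h
      · left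
        exact h.trans (Nat.div_dvd_of_dvd (by
          rcases (Nat.dvd_prime Nat.prime_two).1 hd2 with h1 | h1
          · rw [h1]; exact one_dvd _
          · rw [h1]
            have h2 : 2 ∣ q - 1 := by rw [← h1, ← hd]; exact Nat.gcd_dvd_right _ _
            omega))
      · right
        exact h.trans (Nat.div_dvd_of_dvd (hd ▸ Nat.gcd_dvd_right _ _))
    by_cases hp2' : p = 2
    · subst hp2'
      have h2q : 2 ∣ q := hpq
      rcases hkd with h | h
      · obtain ⟨r, hr, hrd⟩ := Nat.exists_prime_and_dvd (n := q - 1) (by omega)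
        have hr2 : r ≠ 2 := by rintro rfl; exact hp2 hrd
        have h1 := (hodd r hr hr2 (hrd.mul_left _)).trans hμk
        rcases hr.dvd_mul.1 h1 with h2 | h2
        · exact hr2 ((Nat.prime_dvd_prime_iff_eq hr Nat.prime_two).1 h2)
        · have h3 : r ∣ (q + 1) - (q - 1) := Nat.dvd_sub (h2.trans h) hrd
          have h5 : (q + 1) - (q - 1) = 2 := by omega
          rw [h5] at h3
          exact hr2 ((Nat.prime_dvd_prime_iff_eq hr Nat.prime_two).1 h3)
      · obtain ⟨r, hr, hrd⟩ := Nat.exists_prime_and_dvd (n := q + 1) (by omega)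
        have hr2 : r ≠ 2 := by rintro rfl; exact hp1 hrd
        have h1 := (hodd r hr hr2 (hrd.mul_right _)).trans hμk
        rcases hr.dvd_mul.1 h1 with h2 | h2
        · exact hr2 ((Nat.prime_dvd_prime_iff_eq hr Nat.prime_two).1 h2)
        · have h3 : r ∣ (q + 1) - (q - 1) := Nat.dvd_sub hrd (h2.trans h)
          have h5 : (q + 1) - (q - 1) = 2 := by omega
          rw [h5] at h3
          exact hr2 ((Nat.prime_dvd_prime_iff_eq hr Nat.prime_two).1 h3)
    · have h1 := hpμ.trans hμk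
      rcases hp.out.dvd_mul.1 h1 with h2 | h2
      · exact hp2' ((Nat.prime_dvd_prime_iff_eq hp.out Nat.prime_two).1 h2)
      · rcases hkd with h | h
        · exact hp1 (h2.trans h)
        · exact hp2 (h2.trans h)
  · -- Borel subgroups
    have h1 := hindN P
    rw [hq] at h1
    have h2 := (normalizer ((P : Subgroup (Matrix.ProjectiveSpecialLinearGroup (Fin 2) F)) :
      Set (Matrix.ProjectiveSpecialLinearGroup (Fin 2) F))).card_mul_index
    rw [h1, ht] at h2
    have h3 : μ ∣ Nat.card (normalizer ((P : Subgroup (Matrix.ProjectiveSpecialLinearGroup (Fin 2) F)) :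
      Set (Matrix.ProjectiveSpecialLinearGroup (Fin 2) F))) := by
      rw [← hμ, Nat.card_congr e.toEquiv]
      exact card_dvd_of_le hK
    obtain ⟨b, hb⟩ : ∃ b, Nat.card (normalizer ((P : Subgroup (Matrix.ProjectiveSpecialLinearGroup (Fin 2) F)) :
      Set (Matrix.ProjectiveSpecialLinearGroup (Fin 2) F))) = b := ⟨_, rfl⟩
    rw [hb] at h2 h3
    have h5 : d * b = q * (q - 1) := by
      apply Nat.eq_of_mul_eq_mul_left (show 0 < q + 1 by omega)
      calc (q + 1) * (d * b) = d * (b * (q + 1)) := by ring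
        _ = q * ((q + 1) * (q - 1)) := by rw [h2]; exact hcard
        _ = (q + 1) * (q * (q - 1)) := by ring
    by_cases h6 : ∃ r, r.Prime ∧ r ∣ q + 1 ∧ r ≠ 2
    · obtain ⟨r, hr, hrd, hr2⟩ := h6
      have h7 : r ∣ q * (q - 1) := by
        rw [← h5]
        exact ((hodd r hr hr2 (hrd.mul_right _)).trans h3).mul_left d
      rcases hr.dvd_mul.1 h7 with h8 | h8
      · exact hr.one_lt.ne' (Nat.dvd_one.1 ((Nat.dvd_add_right h8).1 hrd))
      · have h9 : r ∣ (q + 1) - (q - 1) := Nat.dvd_sub hrd h8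
        have h10 : (q + 1) - (q - 1) = 2 := by omega
        rw [h10] at h9
        exact hr2 ((Nat.prime_dvd_prime_iff_eq hr Nat.prime_two).1 h9)
    · push Not at h6
      have h7 : 4 ∣ q + 1 := by
        by_contra h8
        obtain ⟨r, hr, hrd, hr2⟩ := exists_odd_prime (N := q + 1) (by omega) h8
        exact hr2 (h6 r hr hrd)
      have hd' : d = 2 := by
        rw [← hd]
        apply Nat.gcd_eq_left
        omega
      rw [hd'] at h5 hcard
      have h8 : 2 ∣ μ := by
        apply hall 2 Nat.prime_two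
        obtain ⟨c, hc⟩ := h7
        refine ⟨q * (c * (q - 1)), ?_⟩
        apply Nat.eq_of_mul_eq_mul_left (show 0 < 2 by norm_num)
        rw [hcard, hc]; ring
      obtain ⟨c, hc⟩ := h8.trans h3
      rw [hc] at h5
      have h9 : 4 ∣ q * (q - 1) := ⟨c, by rw [← h5]; ring⟩
      have h10 : Nat.Coprime 4 q := by
        rw [show 4 = 2 ^ 2 by norm_num]
        apply Nat.Coprime.pow_left
        rw [Nat.coprime_two_left, Nat.odd_iff]
        omega
      have h11 := h10.dvd_of_dvd_mul_left h9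
      omega
  · -- `A₄`
    exfalso
    have h12 : μ = 12 := by
      rw [← hμ, Nat.card_congr e.toEquiv, nat_card_alternatingGroup, Nat.card_eq_fintype_card, Fintype.card_fin]
      rfl
    obtain ⟨h1, h2⟩ := h235 (fun r hr hrd => by
      rw [h12, show 12 = 2 ^ 2 * 3 by norm_num, hr.dvd_mul] at hrd
      rcases hrd with hrd | hrd
      · left; exact (Nat.prime_dvd_prime_iff_eq hr Nat.prime_two).1 (hr.dvd_of_dvd_pow hrd)
      · right; left; exact (Nat.prime_dvd_prime_iff_eq hr Nat.prime_three).1 hrd)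
    rw [h12] at h2
    omega
  · -- `S₄`
    exfalso
    have h12 : μ = 24 := by
      rw [← hμ, Nat.card_congr e.toEquiv, Nat.card_perm, Nat.card_eq_fintype_card, Fintype.card_fin]
      rfl
    obtain ⟨h1, h2⟩ := h235 (fun r hr hrd => by
      rw [h12, show 24 = 2 ^ 3 * 3 by norm_num, hr.dvd_mul] at hrd
      rcases hrd with hrd | hrd
      · left; exact (Nat.prime_dvd_prime_iff_eq hr Nat.prime_two).1 (hr.dvd_of_dvd_pow hrd)
      · right; left; exact (Nat.prime_dvd_prime_iff_eq hr Nat.prime_three).1 hrd)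
    rw [h12] at h2
    omega
  · -- `A₅`
    have h12 : μ = 60 := by
      rw [← hμ, Nat.card_congr e.toEquiv, nat_card_alternatingGroup, Nat.card_eq_fintype_card, Fintype.card_fin]
      rfl
    obtain ⟨h1, h2⟩ := h235 (fun r hr hrd => by
      rw [h12, show 60 = 2 ^ 2 * 3 * 5 by norm_num, hr.dvd_mul, hr.dvd_mul] at hrd
      rcases hrd with (hrd | hrd) | hrd
      · left; exact (Nat.prime_dvd_prime_iff_eq hr Nat.prime_two).1 (hr.dvd_of_dvd_pow hrd)
      · right; left; exact (Nat.prime_dvd_prime_iff_eq hr Nat.prime_three).1 hrd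
      · right; right; exact (Nat.prime_dvd_prime_iff_eq hr Nat.prime_five).1 hrd)
    rw [h12] at hmul
    rcases h1 with rfl | rfl | rfl
    · norm_num at hd hcard
      subst hd
      omega
    · norm_num at hd hcard
      subst hd
      omega
    · exact hA6 ⟨hq, ⟨e⟩⟩
  · -- subfields
    obtain ⟨q0, hq0⟩ : ∃ q0, Fintype.card K = q0 := ⟨_, rfl⟩
    have hq01 : 1 < q0 := hq0 ▸ Fintype.one_lt_card
    rw [hq0] at hm
    have hm0 : m ≠ 0 := by rintro rfl; rw [pow_zero] at hm; omega
    obtain ⟨a, -, ha⟩ := (Nat.dvd_prime_pow hp.out).1 (show q0 ∣ p ^ (N : ℕ) by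
      rw [← hN, ← hm]; exact dvd_pow_self q0 hm0)
    have ha0 : a ≠ 0 := by rintro rfl; rw [pow_zero] at ha; omega
    have hpq0 : p ∣ q0 := ha ▸ dvd_pow_self p ha0
    -- the order of `M`
    have hM1 : μ ∣ q0 * (q0 ^ 2 - 1) ∧ (q0 = q → t ≤ μ) := by
      rcases he with ⟨⟨e⟩⟩ | ⟨⟨e⟩⟩
      · have h1 := card_psl (F := K)
        rw [hq0, ← Nat.card_congr e.toEquiv, hμ] at h1
        refine ⟨⟨_, by rw [← h1]; ring⟩, ?_⟩
        rintro rfl
        rw [hd, hfac, ← hcard] at h1
        exact (Nat.eq_of_mul_eq_mul_left hdpos h1).ge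
      · have h1 := card_pgl (F := K)
        rw [hq0, ← Nat.card_congr e.toEquiv, hμ] at h1
        refine ⟨by rw [h1], ?_⟩
        rintro rfl
        rw [h1, hfac, ← hcard]
        exact Nat.le_mul_of_pos_left _ hdpos
    by_cases hm1 : m = 1
    · subst hm1
      rw [pow_one] at hm
      have h1 := hM1.2 hm
      apply hidx1
      have h2 : μ * ι ≤ μ * 1 := by omega
      have h3 := Nat.le_of_mul_le_mul_left h2 hMpos
      omega
    · have hm2 : 2 ≤ m := by omega
      by_cases h8 : q = 8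
      · -- `q = 8`
        have h9 : q0 = 2 := by
          rw [h8] at hm
          have h10 : q0 ≤ 2 := by
            by_contra h11
            push Not at h11
            have h12 : 3 ^ 2 ≤ q0 ^ m := (Nat.pow_le_pow_left h11 2).trans (Nat.pow_le_pow_right (by omega) hm2)
            omega
          omega
        have h10 := (hodd 7 (by norm_num) (by norm_num) (by rw [h8]; norm_num)).trans hM1.1
        rw [h9] at h10
        norm_num at h10
      · obtain ⟨r, hr, hr1, hr2, hr3⟩ := Cfsg.Agent.Lib.Zsigmondy.exists_primitive (a := q0) (n := 2 * m)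
          (by omega) (by omega) (by omega) (by
            rintro ⟨h9, h10⟩
            apply h8
            have h11 : m = 3 := by omega
            rw [← hm, h9, h11]; norm_num)
        have h9 : r ∣ (q + 1) * (q - 1) := by
          rw [← hfac, ← hm, ← pow_mul]
          exact (hr1 _).2 (by rw [mul_comm])
        have h10 : r ≠ 2 := by
          rintro rfl
          have := Nat.le_of_dvd (by norm_num) hr2
          omega
        have h11 := (hodd r hr h10 h9).trans hM1.1
        rcases hr.dvd_mul.1 h11 with h12 | h12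
        · exact hr3 h12
        · have h13 := Nat.le_of_dvd (by norm_num) ((hr1 2).1 h12)
          omega

theorem psl2_max {F : Type*} [Field F] [Fintype F] (h4 : 4 ≤ Fintype.card F) (h9 : Fintype.card F ≠ 9) :
    Cfsg.Agent.H278.El.ClMaxA (Matrix.ProjectiveSpecialLinearGroup (Fin 2) F) := by
  intro M hM
  exact (psl2_aux h4 M hM.1).resolve_right (fun h => h9 h.1)

end Cfsg.Agent.H947.El
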