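import Mathlib
import Cfsg.Agent.H947.El.Psl2
import Cfsg.Agent.S0254

/-!
# TEAM ELUSIVE, rank one: `PSL₂(9)` (helper947, task 647)
-/

set_option autoImplicit false
set_option linter.style.haveILetI false

namespace Cfsg.Agent.H947.El

open MulAction Subgroup Cfsg Cfsg.Agent.H396 Cfsg.Agent.H278.El

theorem isConj_five {σ τ : alternatingGroup (Fin 5)} (hσ : orderOf σ = 3) (hτ : orderOf τ = 3) : IsConj σ τ := by
  have key : ∀ ρ : alternatingGroup (Fin 5), orderOf ρ = 3 → (ρ : Equiv.Perm (Fin 5)).IsThreeCycle := by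
    intro ρ hρ
    have h1 : orderOf (ρ : Equiv.Perm (Fin 5)) = 3 := by rw [Subgroup.orderOf_coe, hρ]
    obtain ⟨n, hn⟩ := Equiv.Perm.cycleType_prime_order (σ := (ρ : Equiv.Perm (Fin 5))) (by rw [h1]; norm_num)
    have h2 := Equiv.Perm.sum_cycleType (ρ : Equiv.Perm (Fin 5))
    have h3 : (ρ : Equiv.Perm (Fin 5)).support.card ≤ 5 := by
      have := Finset.card_le_univ (ρ : Equiv.Perm (Fin 5)).support
      simpa using this
    rw [hn, h1, Multiset.sum_replicate, smul_eq_mul] at h2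
    have hn0 : n = 0 := by omega
    rw [Equiv.Perm.IsThreeCycle, hn, h1, hn0]
    rfl
  exact alternatingGroup.isThreeCycle_isConj (by simp) (key σ hσ) (key τ hτ)

theorem derT_a6 {T : Type*} [Group T] (e : T ≃* alternatingGroup (Fin 6)) (M : Subgroup T)
    (hM : Nonempty (M ≃* alternatingGroup (Fin 5))) : DerT T M := by
  obtain ⟨f⟩ := hM
  by_contra hcon
  obtain ⟨a, ha⟩ : ∃ a : alternatingGroup (Fin 6), (a : Equiv.Perm (Fin 6)) = c[0, 1, 2] :=
    ⟨⟨c[0, 1, 2], Equiv.Perm.mem_alternatingGroup.2 (by decide)⟩, rfl⟩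
  obtain ⟨b, hb⟩ : ∃ b : alternatingGroup (Fin 6),
      (b : Equiv.Perm (Fin 6)) = c[0, 1, 2] * c[3, 4, 5] :=
    ⟨⟨c[0, 1, 2] * c[3, 4, 5], Equiv.Perm.mem_alternatingGroup.2 (by decide)⟩, rfl⟩
  have hao : orderOf a = 3 := by
    rw [← Subgroup.orderOf_coe, ha]
    exact orderOf_eq_prime (by decide) (by decide)
  have hbo : orderOf b = 3 := by
    rw [← Subgroup.orderOf_coe, hb]
    exact orderOf_eq_prime (by decide) (by decide)
  have hxo : orderOf (e.symm a) = 3 := by rw [MulEquiv.orderOf_eq, hao]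
  have hyo : orderOf (e.symm b) = 3 := by rw [MulEquiv.orderOf_eq, hbo]
  obtain ⟨g, hg⟩ := exists_conj_of_not_derT hcon (e.symm a) (by rw [hxo]; norm_num)
  obtain ⟨k, hk⟩ := exists_conj_of_not_derT hcon (e.symm b) (by rw [hyo]; norm_num)
  have h1 : orderOf (⟨g * e.symm a * g⁻¹, hg⟩ : M) = 3 := by
    rw [Subgroup.orderOf_mk, ← MulAut.conj_apply, MulEquiv.orderOf_eq, hxo]
  have h2 : orderOf (⟨k * e.symm b * k⁻¹, hk⟩ : M) = 3 := by
    rw [Subgroup.orderOf_mk, ← MulAut.conj_apply, MulEquiv.orderOf_eq, hyo]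
  have h3 := isConj_five (σ := f ⟨_, hg⟩) (τ := f ⟨_, hk⟩) (by rw [MulEquiv.orderOf_eq, h1])
    (by rw [MulEquiv.orderOf_eq, h2])
  obtain ⟨c, hc⟩ := isConj_iff.1 h3
  have h4 : (f.symm c) * (⟨_, hg⟩ : M) * (f.symm c)⁻¹ = ⟨_, hk⟩ := by
    apply f.injective
    rw [map_mul, map_mul, map_inv, MulEquiv.apply_symm_apply]
    exact hc
  have h5 : ((f.symm c : M) : T) * (g * e.symm a * g⁻¹) * ((f.symm c : M) : T)⁻¹ = k * e.symm b * k⁻¹ :=
    congrArg Subtype.val h4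
  have h6 : IsConj a b := by
    rw [isConj_iff]
    refine ⟨e (k⁻¹ * (f.symm c : M) * g), ?_⟩
    apply e.symm.injective
    rw [map_mul, map_mul, map_inv, MulEquiv.symm_apply_apply]
    calc (k⁻¹ * ((f.symm c : M) : T) * g) * e.symm a * (k⁻¹ * ((f.symm c : M) : T) * g)⁻¹
        = k⁻¹ * (((f.symm c : M) : T) * (g * e.symm a * g⁻¹) * ((f.symm c : M) : T)⁻¹) * k := by group
      _ = e.symm b := by rw [h5]; group
  have h7 : IsConj (a : Equiv.Perm (Fin 6)) (b : Equiv.Perm (Fin 6)) := by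
    obtain ⟨c, hc⟩ := isConj_iff.1 h6
    exact isConj_iff.2 ⟨c, congrArg Subtype.val hc⟩
  rw [ha, hb] at h7
  obtain ⟨c, hc⟩ := isConj_iff.1 h7
  have h8 := Equiv.Perm.card_support_conj (τ := c[(0 : Fin 6), 1, 2]) (σ := c)
  rw [hc] at h8
  revert h8
  decide

/-- `PSL₂(q)`, `q ≥ 4`: every proper subgroup misses a `T`-class of elements of prime order. -/
theorem derT_psl2 {F : Type*} [Field F] [Fintype F] (h4 : 4 ≤ Fintype.card F)
    (M : Subgroup (Matrix.ProjectiveSpecialLinearGroup (Fin 2) F)) (hM : M ≠ ⊤) :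
    DerT (Matrix.ProjectiveSpecialLinearGroup (Fin 2) F) M := by
  rcases psl2_aux h4 M hM with h | ⟨h9, h⟩
  · exact Der.derT h
  · obtain ⟨e⟩ := Cfsg.Agent.S0254.result h9
    exact derT_a6 e M h

/-- `PSL₂(q)`, `q ≥ 4`. -/
theorem clMax_psl2 {F : Type*} [Field F] [Fintype F] (h4 : 4 ≤ Fintype.card F) :
    ClMax (Matrix.ProjectiveSpecialLinearGroup (Fin 2) F) :=
  fun M hM => derT_psl2 h4 M hM.1

end Cfsg.Agent.H947.El
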