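import Mathlib
import Cfsg.Agent.H278.ElDefs
import Cfsg.Agent.H394.SqBasic
import Cfsg.Agent.Solvable.UniqueOrderP

/-!
# TEAM ELUSIVE, rank one: `PSU₃(q)` (helper947, task 647), group theory

* `card_centralizer_eq` : if `M` meets all `Aut T`-classes of elements of order `p` and `p²` does not divide `|M|`, then all
  elements of order `p` of `T` have centralisers of the same order;
* `exists_two_classes` : this fails in `T` with non-abelian TI Sylow `p`-subgroups.
-/

set_option autoImplicit false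
set_option linter.style.haveILetI false

namespace Cfsg.Agent.H947.El

open MulAction Subgroup Cfsg Cfsg.Agent.H396

theorem card_centralizer_aut {T : Type*} [Group T] (φ : T ≃* T) (x : T) :
    Nat.card (centralizer ({φ x} : Set T)) = Nat.card (centralizer ({x} : Set T)) := by
  refine (Nat.card_congr ?_).symm
  refine { toFun := fun y => ⟨φ y, ?_⟩, invFun := fun y => ⟨φ.symm y, ?_⟩, left_inv := ?_, right_inv := ?_ }
  · have := mem_centralizer_singleton_iff.1 y.2
    rw [mem_centralizer_singleton_iff, ← map_mul, ← map_mul, this]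
  · have := mem_centralizer_singleton_iff.1 y.2
    rw [mem_centralizer_singleton_iff]
    apply φ.injective
    rw [map_mul, map_mul, φ.apply_symm_apply, this]
  · intro y; simp
  · intro y; simp

theorem centralizer_eq_of_zpowers {T : Type*} [Group T] {x y : T} (h : zpowers x = zpowers y) :
    centralizer ({x} : Set T) = centralizer ({y} : Set T) := by
  have key : ∀ a b : T, zpowers a = zpowers b → centralizer ({a} : Set T) ≤ centralizer ({b} : Set T) := by
    intro a b hab c hc
    rw [mem_centralizer_singleton_iff] at hc ⊢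
    obtain ⟨k, hk⟩ : b ∈ zpowers a := hab ▸ mem_zpowers b
    have hk' : a ^ k = b := hk
    rw [← hk']
    exact (show Commute c a from hc).zpow_right k
  exact le_antisymm (key _ _ h) (key _ _ h.symm)

theorem card_centralizer_eq {T : Type*} [Group T] [Finite T] {M : Subgroup T} (hD : ¬ Der T M) {p : ℕ} (hp : p.Prime)
    (hM : ¬ p ^ 2 ∣ Nat.card M) {x y : T} (hx : orderOf x = p) (hy : orderOf y = p) :
    Nat.card (centralizer ({x} : Set T)) = Nat.card (centralizer ({y} : Set T)) := by
  have : Fact p.Prime := ⟨hp⟩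
  have key : ∀ x : T, orderOf x = p → ∃ φ : T ≃* T, φ x ∈ M := by
    intro x hx
    by_contra hcon
    push Not at hcon
    exact hD ⟨x, by rw [hx]; exact hp, hcon⟩
  obtain ⟨φ, hφ⟩ := key x hx
  obtain ⟨ψ, hψ⟩ := key y hy
  rw [← card_centralizer_aut φ x, ← card_centralizer_aut ψ y]
  -- Sylow subgroups of `M`
  have hsyl : ∀ z : M, orderOf z = p → ∃ P : Sylow p M, (P : Subgroup M) = zpowers z := by
    intro z hz
    have h1 : IsPGroup p (zpowers z) := IsPGroup.of_card (n := 1) (by rw [Nat.card_zpowers, hz, pow_one])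
    obtain ⟨P, hP⟩ := h1.exists_le_sylow
    refine ⟨P, (Subgroup.eq_of_le_of_card_ge hP ?_).symm⟩
    rw [Nat.card_zpowers, hz, P.card_eq_multiplicity]
    have h2 : (Nat.card M).factorization p ≤ 1 := by
      by_contra h2
      exact hM ((hp.pow_dvd_iff_le_factorization Nat.card_pos.ne').2 (by omega))
    calc p ^ (Nat.card M).factorization p ≤ p ^ 1 := Nat.pow_le_pow_right hp.pos h2
      _ = p := pow_one p
  have hxo : orderOf (⟨φ x, hφ⟩ : M) = p := by rw [Subgroup.orderOf_mk, MulEquiv.orderOf_eq, hx]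
  have hyo : orderOf (⟨ψ y, hψ⟩ : M) = p := by rw [Subgroup.orderOf_mk, MulEquiv.orderOf_eq, hy]
  obtain ⟨P, hP⟩ := hsyl _ hxo
  obtain ⟨Q, hQ⟩ := hsyl _ hyo
  obtain ⟨g, hg⟩ := exists_smul_eq M P Q
  have h1 : zpowers ((g : T) * φ x * (g : T)⁻¹) = zpowers (ψ y) := by
    have h2 : (P : Subgroup M).map (MulAut.conj g).toMonoidHom = (Q : Subgroup M) := by rw [← hg]; rfl
    rw [hP, hQ, MonoidHom.map_zpowers] at h2
    have h3 := congrArg (fun K : Subgroup M => K.map M.subtype) h2
    simp only [MonoidHom.map_zpowers] at h3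
    exact h3
  rw [← centralizer_eq_of_zpowers h1]
  exact (card_centralizer_aut (MulAut.conj (g : T)) (φ x)).symm

/-- in a non-abelian group of order `p³`, `p` odd, there is a non-central element of order `p`. -/
theorem exists_noncentral {S : Type*} [Group S] [Finite S] {p : ℕ} [hp : Fact p.Prime] (hp2 : p ≠ 2)
    (hc : Nat.card S = p ^ 3) (hab : ∃ a b : S, a * b ≠ b * a) : ∃ y : S, orderOf y = p ∧ y ∉ center S := by
  by_contra hcon
  push Not at hcon
  obtain ⟨a, b, hab⟩ := hab
  have hS : IsPGroup p S := IsPGroup.of_card hc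
  have hZ : Nat.card (center S) ∣ p := by
    have h1 : Nat.card (center S) ∣ p ^ 3 := hc ▸ (center S).card_subgroup_dvd_card
    obtain ⟨k, hk3, hk⟩ := (Nat.dvd_prime_pow hp.out).1 h1
    have h2 := (center S).card_mul_index
    rw [hk, hc] at h2
    have h3 : (center S).index = p ^ (3 - k) := by
      have h4 : p ^ k * (center S).index = p ^ k * p ^ (3 - k) := by
        rw [h2, ← pow_add]; congr 1; omega
      exact Nat.eq_of_mul_eq_mul_left (pow_pos hp.out.pos k) h4
    have hk1 : k ≤ 1 := by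
      by_contra hk1
      -- the quotient is cyclic
      have h5 : Nat.card (S ⧸ center S) ∣ p := by
        rw [← Subgroup.index_eq_card, h3]
        calc p ^ (3 - k) ∣ p ^ 1 := pow_dvd_pow p (by omega)
          _ = p := pow_one p
      have h6 : IsCyclic (S ⧸ center S) := isCyclic_of_card_dvd_prime h5
      exact hab (commutative_of_cyclic_center_quotient (QuotientGroup.mk' (center S))
        (by rw [QuotientGroup.ker_mk']) a b)
    rw [hk]
    calc p ^ k ∣ p ^ 1 := pow_dvd_pow p hk1
      _ = p := pow_one p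
  have hU : Cfsg.Agent.Solvable.UniqueOrderP.UniqueP p S := by
    intro x y hx1 hx hy
    by_cases hy1 : y = 1
    · rw [hy1]; exact one_mem _
    have hxo : orderOf x = p := orderOf_eq_prime hx hx1
    have hyo : orderOf y = p := orderOf_eq_prime hy hy1
    have hxZ := hcon x hxo
    have hyZ := hcon y hyo
    have h1 : zpowers (⟨x, hxZ⟩ : center S) = ⊤ := by
      apply Subgroup.eq_top_of_le_card
      rw [Nat.card_zpowers, Subgroup.orderOf_mk, hxo]
      exact Nat.le_of_dvd hp.out.pos hZ
    have h2 : (⟨y, hyZ⟩ : center S) ∈ zpowers (⟨x, hxZ⟩ : center S) := by rw [h1]; trivial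
    obtain ⟨k, hk⟩ := h2
    exact ⟨k, congrArg Subtype.val hk⟩
  have hcyc := Cfsg.Agent.Solvable.UniqueOrderP.isCyclic_of_uniqueP hp2 hS hU
  exact hab (hcyc.commGroup.mul_comm a b)

/-- non-abelian TI Sylow `p`-subgroups of order `p³`. -/
theorem exists_two_classes {T : Type*} [Group T] [Finite T] {p : ℕ} [hp : Fact p.Prime] (hp2 : p ≠ 2)
    (hTI : ∀ P Q : Sylow p T, P ≠ Q → (P : Subgroup T) ⊓ Q = ⊥) (h3 : p ^ 3 ∣ Nat.card T) (h4 : ¬ p ^ 4 ∣ Nat.card T)
    {R : Subgroup T} (hR : IsPGroup p R) {a b : T} (ha : a ∈ R) (hb : b ∈ R) (hab : a * b ≠ b * a) :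
    ∃ x y : T, orderOf x = p ∧ orderOf y = p ∧
      Nat.card (centralizer ({x} : Set T)) ≠ Nat.card (centralizer ({y} : Set T)) := by
  obtain ⟨S, hRS⟩ := hR.exists_le_sylow
  have hf : (Nat.card T).factorization p = 3 := by
    apply le_antisymm
    · by_contra h
      exact h4 ((hp.out.pow_dvd_iff_le_factorization Nat.card_pos.ne').2 (by omega))
    · exact (hp.out.pow_dvd_iff_le_factorization Nat.card_pos.ne').1 h3
  have hcard : ∀ Q : Sylow p T, Nat.card Q = p ^ 3 := fun Q => by rw [Q.card_eq_multiplicity, hf]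
  have hSab : ∃ u v : S, u * v ≠ v * u :=
    ⟨⟨a, hRS ha⟩, ⟨b, hRS hb⟩, fun h => hab (congrArg Subtype.val h)⟩
  obtain ⟨y, hy, hyZ⟩ := exists_noncentral hp2 (hcard S) hSab
  -- a central element
  have hnt : Nontrivial S := by
    rw [← Finite.one_lt_card_iff_nontrivial, hcard]
    exact Nat.one_lt_pow (by norm_num) hp.out.one_lt
  have hZnt := IsPGroup.center_nontrivial S.isPGroup'
  have hZp : p ∣ Nat.card (center S) := by
    obtain ⟨n, hn0, hn⟩ := (IsPGroup.nontrivial_iff_card (S.isPGroup'.to_subgroup (center S))).1 hZnt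
    rw [hn]; exact dvd_pow_self p hn0.ne'
  obtain ⟨x, hx⟩ := exists_prime_orderOf_dvd_card' (G := center S) p hZp
  refine ⟨((x : S) : T), (y : T), by rw [Subgroup.orderOf_coe, Subgroup.orderOf_coe, hx], by rw [Subgroup.orderOf_coe, hy], ?_⟩
  intro heq
  have hSx : (S : Subgroup T) ≤ centralizer ({((x : S) : T)} : Set T) := by
    intro s hs
    rw [mem_centralizer_singleton_iff]
    exact congrArg Subtype.val (mem_center_iff.1 x.2 ⟨s, hs⟩)
  have hd : p ^ 3 ∣ Nat.card (centralizer ({(y : T)} : Set T)) := by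
    rw [← heq, ← hcard S]
    exact Subgroup.card_dvd_of_le hSx
  -- a Sylow subgroup of `C(y)`
  obtain ⟨Q⟩ : Nonempty (Sylow p (centralizer ({(y : T)} : Set T))) := inferInstance
  have hyC : (y : T) ∈ centralizer ({(y : T)} : Set T) := by rw [mem_centralizer_singleton_iff]
  have hcomm : ∀ c : centralizer ({(y : T)} : Set T), c * ⟨y, hyC⟩ = ⟨y, hyC⟩ * c := by
    intro c
    exact Subtype.ext (mem_centralizer_singleton_iff.1 c.2)
  have hyQ : (⟨y, hyC⟩ : centralizer ({(y : T)} : Set T)) ∈ (Q : Subgroup (centralizer ({(y : T)} : Set T))) := by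
    have hn : (zpowers (⟨y, hyC⟩ : centralizer ({(y : T)} : Set T))).Normal := by
      refine ⟨fun n hn g => ?_⟩
      have : g * n * g⁻¹ = n := by
        obtain ⟨k, rfl⟩ := hn
        have := (show Commute g _ from hcomm g).zpow_right k
        show g * (⟨y, hyC⟩ : centralizer ({(y : T)} : Set T)) ^ k * g⁻¹ = _
        rw [this.eq]; group
      rw [this]; exact hn
    have h1 : IsPGroup p (zpowers (⟨y, hyC⟩ : centralizer ({(y : T)} : Set T))) :=
      IsPGroup.of_card (n := 1) (by rw [Nat.card_zpowers, Subgroup.orderOf_mk, Subgroup.orderOf_coe, hy, pow_one])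
    have h2 := Q.isPGroup'.to_sup_of_normal_right h1
    have h3 := Q.is_maximal' h2 le_sup_left
    have h4 : (⟨y, hyC⟩ : centralizer ({(y : T)} : Set T)) ∈ (Q : Subgroup _) ⊔ zpowers (⟨y, hyC⟩ : centralizer ({(y : T)} : Set T)) :=
      (le_sup_right : _ ≤ (Q : Subgroup _) ⊔ zpowers (⟨y, hyC⟩ : centralizer ({(y : T)} : Set T))) (mem_zpowers _)
    rw [h3] at h4
    exact h4
  have hQp : IsPGroup p ((Q : Subgroup (centralizer ({(y : T)} : Set T))).map (Subgroup.subtype _)) := Q.isPGroup'.map _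
  obtain ⟨Q2, hQ2⟩ := hQp.exists_le_sylow
  have hQc : Nat.card Q2 ≤ Nat.card ((Q : Subgroup (centralizer ({(y : T)} : Set T))).map (Subgroup.subtype _)) := by
    rw [Subgroup.card_map_of_injective (Subgroup.subtype_injective _), hcard, Q.card_eq_multiplicity]
    exact Nat.pow_le_pow_right hp.out.pos ((hp.out.pow_dvd_iff_le_factorization Nat.card_pos.ne').1 hd)
  have hQeq := Subgroup.eq_of_le_of_card_ge hQ2 hQc
  have hyQ2 : (y : T) ∈ (Q2 : Subgroup T) := hQ2 ⟨_, hyQ, rfl⟩
  have hQS : Q2 = S := by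
    by_contra hne
    have h1 := hTI Q2 S hne
    have h2 : (y : T) ∈ (Q2 : Subgroup T) ⊓ S := ⟨hyQ2, y.2⟩
    rw [h1, mem_bot] at h2
    have h3 : y = 1 := Subtype.ext h2
    rw [h3, orderOf_one] at hy
    exact hp.out.one_lt.ne hy
  apply hyZ
  rw [mem_center_iff]
  intro s
  have hs : (s : T) ∈ (Q2 : Subgroup T) := by rw [hQS]; exact s.2
  rw [← hQeq] at hs
  obtain ⟨c, -, hc⟩ := hs
  have h1 : (c : T) * y = y * c := mem_centralizer_singleton_iff.1 c.2
  have hc' : (c : T) = s := hc
  rw [hc'] at h1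
  exact Subtype.ext h1

end Cfsg.Agent.H947.El
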