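import Mathlib
import Cfsg.Agent.H947.El.PsuB
import Cfsg.Agent.H394.SqPsu3
import Cfsg.Agent.H907.MxRes2
import Cfsg.Agent.H918.UBase
import Cfsg.Agent.StandardComponent.AltAut
import Cfsg.Agent.S5778
import Cfsg.Agent.S5779

/-!
# TEAM ELUSIVE, rank one: `PSU₃(q)` (helper947, task 647)

* `clMaxA_psu3` : every maximal subgroup of `PSU₃(q)`, `q ≥ 3`, misses an `Aut`-class of elements of prime order.
-/

set_option autoImplicit false
set_option linter.style.haveILetI false

namespace Cfsg.Agent.H947.El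

open Cfsg Cfsg.Geo Cfsg.Agent.H947.Sq Module Cfsg.Agent.H396 Cfsg.Agent.H918 Cfsg.Agent.H907.Mx
open scoped MatrixGroups

theorem isMaximalIn_of_coatom {T S G : Type*} [Group T] [Group S] [Group G] (π : S →* T) (hπ : Function.Surjective π)
    (ι : S →* G) (hι : Function.Injective ι) {M : Subgroup T} (hM : IsCoatom M) :
    IsMaximalIn ι.range ((M.comap π).map ι) := by
  refine ⟨lt_of_le_of_ne ?_ ?_, ?_⟩
  · rw [MonoidHom.range_eq_map]; exact Subgroup.map_mono le_top
  · intro he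
    rw [MonoidHom.range_eq_map] at he
    have h1 := Subgroup.map_injective hι he
    apply hM.1
    rw [eq_top_iff]
    intro x _
    obtain ⟨s, rfl⟩ := hπ x
    have : s ∈ M.comap π := by rw [h1]; trivial
    exact this
  · intro K hHK hK
    have hKe : (K.comap ι).map ι = K := Subgroup.map_comap_eq_self hK
    have h1 : M.comap π ≤ K.comap ι := by
      intro s hs
      exact hHK ⟨s, hs, rfl⟩
    have hker : π.ker ≤ K.comap ι := by
      refine le_trans ?_ h1
      intro s hs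
      rw [Subgroup.mem_comap, MonoidHom.mem_ker.1 hs]
      exact M.one_mem
    have h2 : ((K.comap ι).map π).comap π = K.comap ι := Subgroup.comap_map_eq_self hker
    have h3 : M ≤ (K.comap ι).map π := by
      rw [← Subgroup.map_comap_eq_self_of_surjective hπ M]
      exact Subgroup.map_mono h1
    rcases hM.le_iff.1 h3 with h4 | h4
    · right
      rw [h4, Subgroup.comap_top] at h2
      rw [← hKe, ← h2, MonoidHom.range_eq_map]
    · left
      rw [h4] at h2
      rw [← hKe, ← h2]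

theorem card_aut_a7 : Nat.card (MulAut (alternatingGroup (Fin 7))) ∣ 5040 := by
  obtain ⟨ψ, hψ⟩ := Cfsg.Agent.StandardComponent.AltAut.exists_autHom 7 le_rfl
  have hinj : Function.Injective ψ := by
    rw [injective_iff_map_eq_one]
    intro e he
    ext x : 2
    rw [hψ, he]
    simp
  have h1 : Nat.card (MulAut (alternatingGroup (Fin 7))) ∣ Nat.card (Equiv.Perm (Fin 7)) :=
    Subgroup.card_dvd_of_injective ψ hinj
  rw [Nat.card_eq_fintype_card (α := Equiv.Perm (Fin 7)), Fintype.card_perm, Fintype.card_fin] at h1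
  exact h1

section

variable {F : Type*} [Field F] [Fintype F] {q : ℕ}

/-- orders -/
theorem psu3_orders (hF : Fintype.card F = q ^ 2) {p n r : ℕ} (h : PN F p n q r) :
    r ∣ Nat.card (PSU 3 F q) ∧ 2 ∣ Nat.card (PSU 3 F q) ∧ q ∣ Nat.card (PSU 3 F q) * 3 := by
  have hcard := Cfsg.Agent.H394.SqPsu3.card_psu3 hF
  have hd3 : Nat.gcd 3 (q + 1) ∣ 3 := Nat.gcd_dvd_left _ _
  have hn := h.n0
  refine ⟨?_, ?_, ?_⟩
  · have h1 : r ∣ q ^ 3 + 1 := by
      have h2 : r ∣ q ^ 6 - 1 := by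
        rw [h.qp, ← pow_mul, h.iff]; exact ⟨1, by ring⟩
      have h3 : q ^ 6 - 1 = (q ^ 3 + 1) * (q ^ 3 - 1) := by
        have := Nat.sq_sub_sq (q ^ 3) 1
        rwa [one_pow, ← pow_mul] at this
      rw [h3] at h2
      refine (h.pr.dvd_mul.1 h2).resolve_right fun h4 => ?_
      rw [h.qp, ← pow_mul] at h4
      exact h.not_dvd (by omega) (by omega) h4
    have h2 : r ∣ Nat.gcd 3 (q + 1) * Nat.card (PSU 3 F q) := by
      rw [hcard]; exact (h1.mul_left _).mul_left _
    refine (h.pr.dvd_mul.1 h2).resolve_left fun h3 => ?_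
    have := Nat.le_of_dvd (by norm_num) (h3.trans hd3)
    have := h.ge
    omega
  · have h2 : 2 ∣ Nat.gcd 3 (q + 1) * Nat.card (PSU 3 F q) := by
      rw [hcard]
      rcases Nat.even_or_odd q with hq2 | hq2
      · exact ((hq2.two_dvd).pow (by norm_num)).mul_right _
      · refine Dvd.dvd.mul_left (Dvd.dvd.mul_left ?_ _) _
        obtain ⟨k, hk⟩ := hq2.pow (n := 3)
        exact ⟨k + 1, by omega⟩
    refine (Nat.prime_two.dvd_mul.1 h2).resolve_left fun h3 => ?_
    have := h3.trans hd3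
    revert this; decide
  · have h2 : q ∣ Nat.gcd 3 (q + 1) * Nat.card (PSU 3 F q) := by
      rw [hcard]; exact (dvd_pow_self q (by norm_num)).mul_right _
    generalize Nat.card (PSU 3 F q) = N at h2
    obtain ⟨k, hk⟩ := hd3
    have h4 : N * 3 = Nat.gcd 3 (q + 1) * N * k := by
      rw [mul_assoc, mul_comm N k, ← mul_assoc, ← hk, mul_comm]
    rw [h4]
    exact h2.mul_right _

/-- the geometric cases -/
theorem geom_false (hF : Fintype.card F = q ^ 2) (hq : 3 ≤ q) {p n r : ℕ} (h : PN F p n q r)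
    {H : Subgroup (GL (Fin 3) F)} (hH : IsMaximalIn (SUg 3 F q) H) {x t : GL (Fin 3) F} (hxH : x ∈ H) (htH : t ∈ H)
    (hX : x ^ r = 1) (hX1 : x ≠ 1) (ht : t * t = 1) (ht1 : t ≠ 1) : InUnitaryResidualClass H := by
  have hxM : ((x : GL (Fin 3) F) : Matrix (Fin 3) (Fin 3) F) ^ r = 1 := by
    rw [← Units.val_pow_eq_pow_val, hX, Units.val_one]
  have hxM1 : (x : Matrix (Fin 3) (Fin 3) F) ≠ 1 := by
    intro h8
    exact hX1 (Units.ext (by rw [h8, Units.val_one]))
  rcases Cfsg.Agent.S5778.result q hF hq H hH with ⟨W, hW0, hWs, he⟩ | ⟨W, hW0, hWn, hW3, he⟩ | ⟨-, D, hD, he⟩ |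
    ⟨-, -, K, hK, -, he⟩ | ⟨F₀, l, P, hl, hlo, hc, -, he⟩ | ⟨-, -, F₀, P, hc, -, he⟩ |
    ⟨p', R, hp', -, -, h11, -, hirr, -, h27, h3, he⟩ | hres
  · exfalso
    rw [he] at hxH
    refine h.no_sub hxM hxM1 hW0 ?_ (fun v hv => (hxH.1 v).1 hv)
    rintro rfl
    have h1 := hWs (Pi.single 0 1) trivial (Pi.single 0 1) trivial
    have hq0 : q ≠ 0 := by omega
    simp [hermForm, Fin.sum_univ_three, zero_pow hq0] at h1
  · exfalso
    rw [he] at hxH
    refine h.no_sub hxM hxM1 hW0 ?_ (fun v hv => (hxH.1 v).1 hv)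
    rintro rfl
    rw [finrank_top, Module.finrank_fin_fun] at hW3
    omega
  · exfalso
    rw [he] at hxH
    exact h.no_dec hX hX1 hD.decomp.finrank_eq hxH.1
  · exfalso
    rw [he] at hxH htH
    exact h.no_field hX hX1 ht ht1 (mem_SUg.1 htH.2).2 hK hxH.1 htH.1
  · exfalso
    rw [he] at hxH
    exact h.no_subfield hX hX1 hl.two_le hc hxH.1
  · exfalso
    rw [he] at hxH
    exact h.no_subfield hX hX1 le_rfl hc hxH.1
  · exfalso
    rw [he] at hxH
    have h5 : 5 ≤ r := by have := h.ge; have := h.n0; omega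
    exact h.no_scalar hX hX1 (symp_prime hirr h27 h3 hxH.1 h.pr h5 hX)
  · exact hres

/-- `q³` exactly divides `|PSU₃(q)|`, `q = 3, 5` -/
theorem psu3_exact (hF : Fintype.card F = q ^ 2) (hq : q = 3 ∨ q = 5) :
    q ^ 3 ∣ Nat.card (PSU 3 F q) ∧ ¬ q ^ 4 ∣ Nat.card (PSU 3 F q) := by
  have hcard := Cfsg.Agent.H394.SqPsu3.card_psu3 hF
  generalize Nat.card (PSU 3 F q) = N at hcard ⊢
  rcases hq with rfl | rfl
  · norm_num at hcard
    rw [hcard]; norm_num
  · norm_num at hcard
    have : N = 126000 := by omega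
    rw [this]; norm_num

/-- the groups `PSU₃(q)`, `q = 3, 5`, with `q²` not dividing `|M|` -/
theorem psu3_small (hF : Fintype.card F = q ^ 2) (hq : q = 3 ∨ q = 5) [CharP F q] {M : Subgroup (PSU 3 F q)}
    (hM : ¬ q ^ 2 ∣ Nat.card M) : Der (PSU 3 F q) M := by
  by_contra hD
  have hfin : Finite (PSU 3 F q) := Quotient.finite _
  have hp : Fact q.Prime := ⟨by rcases hq with rfl | rfl <;> norm_num⟩
  obtain ⟨h3, h4⟩ := psu3_exact hF hq
  obtain ⟨R, hR, a, ha, b, hb, hab⟩ := Cfsg.Agent.H794.PsuNotAb.exists_pair (p := q) (n := 3) hF le_rfl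
  obtain ⟨x, y, hx, hy, hxy⟩ := exists_two_classes (p := q) (by rcases hq with rfl | rfl <;> norm_num)
    (Cfsg.Agent.H394.SqPsu3.inf_of_ti (Cfsg.Agent.H394.SqPsu3.ti_psu3 hF)) h3 h4 hR ha hb hab
  exact hxy (card_centralizer_eq hD hp.out hM hx hy)

/-- **`PSU₃(q)`, `q ≥ 3`** -/
theorem clMaxA_psu3 (hF : Fintype.card F = q ^ 2) (hq : 3 ≤ q) : Cfsg.Agent.H278.El.ClMaxA (PSU 3 F q) := by
  intro M hM
  by_contra hD
  have hfin : Finite (PSU 3 F q) := Quotient.finite _
  have hall : ∀ s : ℕ, s.Prime → s ∣ Nat.card (PSU 3 F q) → s ∣ Nat.card M :=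
    fun s hs hd => Cfsg.Agent.H394.SqBasic.prime_dvd_card_of_not_der hD hs hd
  obtain ⟨p, n, r, h, hchar⟩ := exists_PN hF hq
  obtain ⟨hrT, h2T, -⟩ := psu3_orders hF h
  have hf2 : Fact (Nat.Prime 2) := ⟨Nat.prime_two⟩
  have hfr : Fact r.Prime := ⟨h.pr⟩
  set π := QuotientGroup.mk' (Subgroup.center (Cfsg.SU 3 F q)) with hπ
  have hπs : Function.Surjective π := QuotientGroup.mk'_surjective _
  set ι := suHom 3 F q with hι
  have hιi : Function.Injective ι := suHom_injective
  set H := (M.comap π).map ι with hHd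
  have hH : IsMaximalIn (SUg 3 F q) H := by
    have := isMaximalIn_of_coatom π hπs ι hιi hM
    rwa [range_suHom] at this
  have hcMπ : Nat.card M ∣ Nat.card (M.comap π) := by
    have h1 : (M.comap π).map π = M := Subgroup.map_comap_eq_self_of_surjective hπs M
    have h2 : Nat.card ((M.comap π).map π) ∣ Nat.card (M.comap π) := Subgroup.card_map_dvd _ _
    rwa [h1] at h2
  have hcH : Nat.card (M.comap π) = Nat.card H := (Subgroup.card_map_of_injective hιi).symm
  have hMH : Nat.card M ∣ Nat.card H := hcH ▸ hcMπ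
  have hfinS : Finite (Cfsg.SU 3 F q) := inferInstance
  obtain ⟨x, hx⟩ := exists_prime_orderOf_dvd_card' (G := H) r ((hall r h.pr hrT).trans hMH)
  obtain ⟨t, ht⟩ := exists_prime_orderOf_dvd_card' (G := H) 2 ((hall 2 Nat.prime_two h2T).trans hMH)
  have hxo : orderOf (x : GL (Fin 3) F) = r := by rw [Subgroup.orderOf_coe, hx]
  have hto : orderOf (t : GL (Fin 3) F) = 2 := by rw [Subgroup.orderOf_coe, ht]
  have hres := geom_false hF hq h hH x.2 t.2 (by rw [← hxo]; exact pow_orderOf_eq_one _)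
    (by intro h1; rw [h1, orderOf_one] at hxo; exact h.pr.one_lt.ne hxo)
    (by rw [← pow_two, ← hto]; exact pow_orderOf_eq_one _)
    (by intro h1; rw [h1, orderOf_one] at hto; omega)
  obtain ⟨P, hP, hqp, hcases⟩ := Cfsg.Agent.S5779.result q hF hq H hH hres
  have hge := h.ge
  have hn := h.n0
  have hHS : H ≤ SUg 3 F q := hH.1.le
  have hrH : r ∣ Nat.card H := (hall r h.pr hrT).trans hMH
  have hdvdH : Nat.card H ∣ 3 * Nat.card (MulAut (PQ P)) := card_dvd hP hHS
  -- `p = q`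
  have hqp' : p = q := by
    have h1 : p ∣ q := by rw [h.qp]; exact dvd_pow_self p hn.ne'
    exact (Nat.prime_dvd_prime_iff_eq h.pp hqp).1 h1
  rcases hcases with ⟨⟨e⟩, hq5, hq7⟩ | ⟨⟨e⟩, -⟩ | ⟨⟨e⟩, hq5⟩
  · have h1008 : Nat.card H ∣ 1008 := card_dvd_l32 hP hHS ⟨e⟩
    have hqT : q ∣ Nat.card (PSU 3 F q) := by
      have hcard := Cfsg.Agent.H394.SqPsu3.card_psu3 hF
      have h2 : q ∣ Nat.gcd 3 (q + 1) * Nat.card (PSU 3 F q) := by
        rw [hcard]; exact (dvd_pow_self q (by norm_num)).mul_right _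
      refine (hqp.dvd_mul.1 h2).resolve_left fun h3 => ?_
      have h4 := h3.trans (Nat.gcd_dvd_right 3 (q + 1))
      exact hqp.one_lt.ne' (Nat.dvd_one.1 ((Nat.dvd_add_right (dvd_refl q)).1 h4))
    have h1 := ((hall q hqp hqT).trans hMH).trans h1008
    have hq3 : q = 3 := by
      have h2 : q ∣ 2 ^ 4 * 3 ^ 2 * 7 := by norm_num; exact h1
      rcases hqp.dvd_mul.1 h2 with h3 | h3
      · rcases hqp.dvd_mul.1 h3 with h4 | h4
        · have := Nat.le_of_dvd (by norm_num) (hqp.dvd_of_dvd_pow h4); omega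
        · have := Nat.le_of_dvd (by norm_num) (hqp.dvd_of_dvd_pow h4); omega
      · have := (Nat.prime_dvd_prime_iff_eq hqp (by norm_num)).1 h3
        omega
    refine hD (@psu3_small F _ _ q hF (Or.inl hq3) (hqp' ▸ hchar) M fun h9 => ?_)
    have h336 : Nat.card H ∣ 336 := by
      have : CharP F 3 := by rw [← hq3, ← hqp']; exact hchar
      have hinj : Function.Injective (cQ hP) := by
        rw [injective_iff_map_eq_one]
        intro y hy
        have hs := (cQ_ker hP).1 hy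
        have h3 := scalar_cube hs (hHS y.2)
        obtain ⟨c, hc⟩ := (mem_scalars_iff _).1 hs
        have h5 : (c : F) ^ 3 = 1 := by
          have h6 := congrArg (fun z : GL (Fin 3) F => (z : Matrix (Fin 3) (Fin 3) F) 0 0) h3
          simp only [Units.val_pow_eq_pow_val, hc, _root_.smul_pow, one_pow, Units.val_one, Matrix.smul_apply,
            Matrix.one_apply_eq, smul_eq_mul, mul_one] at h6
          exact h6
        have h6 : (c : F) = 1 := by
          have : ((c : F) - 1) ^ 3 = 0 := by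
            rw [sub_pow_char, h5, one_pow, sub_self]
          exact sub_eq_zero.1 (pow_eq_zero_iff (by norm_num) |>.1 this)
        apply Subtype.ext
        apply Units.ext
        rw [hc, h6, one_smul]; rfl
      have h1 : Nat.card H ∣ Nat.card (MulAut (PQ P)) := Subgroup.card_dvd_of_injective _ hinj
      rw [Nat.card_congr (MulAut.congr e).toEquiv] at h1
      exact h1.trans card_aut_l32
    have h4 := (h9.trans hMH).trans h336
    rw [hq3] at h4
    revert h4; norm_num
  · have h4320 : Nat.card H ∣ 4320 := card_dvd_a6 hP hHS ⟨e⟩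
    have h2 : r ∣ 2 ^ 5 * 3 ^ 3 * 5 := by norm_num; exact hrH.trans h4320
    rcases h.pr.dvd_mul.1 h2 with h3 | h3
    · rcases h.pr.dvd_mul.1 h3 with h4 | h4
      · have := Nat.le_of_dvd (by norm_num) (h.pr.dvd_of_dvd_pow h4); omega
      · have := Nat.le_of_dvd (by norm_num) (h.pr.dvd_of_dvd_pow h4); omega
    · have := Nat.le_of_dvd (by norm_num) h3; omega
  · refine hD (@psu3_small F _ _ q hF (Or.inr hq5) (hqp' ▸ hchar) M fun h9 => ?_)
    rw [Nat.card_congr (MulAut.congr e).toEquiv] at hdvdH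
    have h4 := (h9.trans hMH).trans (hdvdH.trans (Nat.mul_dvd_mul_left 3 card_aut_a7))
    rw [hq5] at h4
    revert h4; norm_num

/-- **`PSU₃(q)`, `q ≥ 3`**, up to isomorphism -/
theorem clMaxA_psu3' {T : Type*} [Group T] (hF : Fintype.card F = q ^ 2) (hq : 3 ≤ q) (e : T ≃* PSU 3 F q) :
    Cfsg.Agent.H278.El.ClMaxA T :=
  (clMaxA_psu3 hF hq).congr e.symm

end

end Cfsg.Agent.H947.El
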