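import Mathlib
import Cfsg.Agent.H947.El.ReeA

/-!
# TEAM ELUSIVE, rank one: the Ree groups (helper947, task 647), `PSL₂(p)`
-/

set_option autoImplicit false
set_option linter.style.haveILetI false

namespace Cfsg.Agent.H947.El

open MulAction Subgroup Cfsg Cfsg.Agent.H396 Cfsg.Agent.H394.SqBasic

section psl

variable {F : Type*} [Field F]

/-- the unipotent matrices -/
def uu : Multiplicative F →* Matrix.SpecialLinearGroup (Fin 2) F where
  toFun t := ⟨!![1, t.toAdd; 0, 1], by simp [Matrix.det_fin_two]⟩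
  map_one' := by
    ext i j
    fin_cases i <;> fin_cases j <;> simp
  map_mul' s t := by
    apply Subtype.ext
    show !![1, (s * t).toAdd; 0, 1] = !![1, s.toAdd; 0, 1] * !![1, t.toAdd; 0, 1]
    rw [Matrix.mul_fin_two]
    simp [add_comm]

/-- the diagonal matrices -/
def hh : Fˣ →* Matrix.SpecialLinearGroup (Fin 2) F where
  toFun a := ⟨!![(a : F), 0; 0, ((a⁻¹ : Fˣ) : F)], by simp [Matrix.det_fin_two]⟩
  map_one' := by
    ext i j
    fin_cases i <;> fin_cases j <;> simp
  map_mul' s t := by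
    apply Subtype.ext
    show !![((s * t : Fˣ) : F), 0; 0, (((s * t)⁻¹ : Fˣ) : F)] =
      !![(s : F), 0; 0, ((s⁻¹ : Fˣ) : F)] * !![(t : F), 0; 0, ((t⁻¹ : Fˣ) : F)]
    rw [Matrix.mul_fin_two]
    simp [mul_comm]

theorem coe_uu (t : F) : (uu (Multiplicative.ofAdd t)).1 = !![1, t; 0, 1] := rfl

theorem coe_hh (a : Fˣ) : (hh a).1 = !![(a : F), 0; 0, ((a⁻¹ : Fˣ) : F)] := rfl

theorem hh_uu (a : Fˣ) (t : F) : hh a * uu (Multiplicative.ofAdd t) * (hh a)⁻¹ =
    uu (Multiplicative.ofAdd ((a : F) ^ 2 * t)) := by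
  rw [mul_inv_eq_iff_eq_mul]
  have h1 : (hh a).1 * (uu (Multiplicative.ofAdd t)).1 = (uu (Multiplicative.ofAdd ((a : F) ^ 2 * t))).1 * (hh a).1 := by
    rw [coe_uu, coe_uu, coe_hh, Matrix.mul_fin_two, Matrix.mul_fin_two]
    have : (a : F) ≠ 0 := a.ne_zero
    have h2 : (a : F) ^ 2 * t * (a : F)⁻¹ = a * t := by
      field_simp
    simp [h2]
  exact Subtype.ext h1

/-- the unipotent elements of `PSL₂` -/
def pu : Multiplicative F →* Matrix.ProjectiveSpecialLinearGroup (Fin 2) F :=
  (QuotientGroup.mk' (Subgroup.center (Matrix.SpecialLinearGroup (Fin 2) F))).comp uu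

/-- the diagonal elements of `PSL₂` -/
def ph : Fˣ →* Matrix.ProjectiveSpecialLinearGroup (Fin 2) F :=
  (QuotientGroup.mk' (Subgroup.center (Matrix.SpecialLinearGroup (Fin 2) F))).comp hh

theorem ph_pu (a : Fˣ) (t : F) : ph a * pu (Multiplicative.ofAdd t) * (ph a)⁻¹ =
    pu (Multiplicative.ofAdd ((a : F) ^ 2 * t)) := by
  simp only [ph, pu, MonoidHom.comp_apply]
  rw [← map_mul, ← map_inv, ← map_mul, hh_uu]

theorem pu_injective : Function.Injective (pu (F := F)) := by
  rw [injective_iff_map_eq_one]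
  intro t ht
  have h1 : uu t ∈ Subgroup.center (Matrix.SpecialLinearGroup (Fin 2) F) := (QuotientGroup.eq_one_iff _).1 ht
  rw [Matrix.SpecialLinearGroup.mem_center_iff] at h1
  obtain ⟨r, -, hr⟩ := h1
  have h2 := congrFun (congrFun hr 0) 1
  simp [uu, Matrix.scalar] at h2
  exact h2.symm

end psl

/-- subgroups `PSL₂(F)`, characteristic `> 3`, of the Ree group -/
theorem ReeF.psl_case {R : Type*} [Group R] [Finite R] {m q r : ℕ} (h : ReeF R m q r) {F : Type*} [Field F] [Fintype F]
    {p : ℕ} [hp : Fact p.Prime] [CharP F p] (hp3 : 3 < p)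
    (ψ : Matrix.ProjectiveSpecialLinearGroup (Fin 2) F →* R) (hψ : Function.Injective ψ) :
    Fintype.card F = p ∧ (p = 5 ∨ p = 7 ∨ p = 13 ∨ p = 17) := by
  classical
  set φ : Multiplicative F →* R := ψ.comp pu with hφ
  have hφi : Function.Injective φ := hψ.comp pu_injective
  set E := φ.range with hEd
  have hpow : ∀ x ∈ E, x ^ p = 1 := by
    rintro _ ⟨t, rfl⟩
    rw [← map_pow]
    have : t ^ p = 1 := by
      show Multiplicative.ofAdd (p • t.toAdd) = 1
      rw [nsmul_eq_mul, CharP.cast_eq_zero, zero_mul]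
      rfl
    rw [this, map_one]
  have hE : IsPGroup p E := fun x => ⟨1, by rw [pow_one]; exact Subtype.ext (hpow x x.2)⟩
  have hcyc := h.cyc p hp.out hp3 E hE
  have hcE : Nat.card E = Fintype.card F := by
    rw [← Nat.card_congr (MonoidHom.ofInjective hφi).toEquiv, Nat.card_congr Multiplicative.toAdd,
      Nat.card_eq_fintype_card]
  have hcE1 : 1 < Nat.card E := by rw [hcE]; exact Fintype.one_lt_card
  have hEp : Nat.card E = p := by
    have h1 : Monoid.exponent E ∣ p := by
      rw [Monoid.exponent_dvd_iff_forall_pow_eq_one]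
      intro y
      exact Subtype.ext (hpow y y.2)
    rw [IsCyclic.exponent_eq_card] at h1
    rcases (Nat.dvd_prime hp.out).1 h1 with h2 | h2
    · omega
    · exact h2
  have hFp : Fintype.card F = p := by rw [← hcE, hEp]
  refine ⟨hFp, ?_⟩
  obtain ⟨A, hAc, hEA, hA⟩ := h.norm p hp.out hp3 E hEp
  have hN : Nat.card (Subgroup.normalizer (E : Set R)) ∣ 24 * Nat.card A := by
    rcases hA with ⟨-, hA2⟩ | ⟨-, hA2⟩ | ⟨-, hA2⟩
    · rw [hA2]; exact Nat.mul_dvd_mul_right (by norm_num) _
    · rw [hA2]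
    · rw [hA2]; exact Nat.mul_dvd_mul_right (by norm_num) _
  -- `N(E) / C(E)`
  set f := E.normalizerMonoidHom with hf
  have hker : Nat.card A ∣ Nat.card f.ker := by
    have hAN : A ≤ Subgroup.normalizer (E : Set R) := by
      intro a ha
      rw [Subgroup.mem_normalizer_iff]
      intro e
      have hcomm : ∀ e ∈ A, a * e * a⁻¹ = e := by
        intro e he
        have : a * e = e * a := congrArg Subtype.val (hAc.commGroup.mul_comm (⟨a, ha⟩ : A) ⟨e, he⟩)
        rw [this]; group
      constructor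
      · intro he
        rw [hcomm e (hEA he)]
        exact he
      · intro he
        have h1 := hcomm _ (hEA he)
        have h2 : a * e * a⁻¹ = e := mul_left_cancel (a := a) (mul_right_cancel (b := a⁻¹) h1)
        rwa [h2] at he
    have h1 : (A.subgroupOf (Subgroup.normalizer (E : Set R))) ≤ f.ker := by
      intro a ha
      rw [MonoidHom.mem_ker]
      ext e
      show (a : R) * e * (a : R)⁻¹ = e
      have : (a : R) * e = e * a := congrArg Subtype.val (hAc.commGroup.mul_comm (⟨a, ha⟩ : A) ⟨e, hEA e.2⟩)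
      rw [this]; group
    have h2 := Subgroup.card_dvd_of_le h1
    rwa [Nat.card_congr (Subgroup.subgroupOfEquivOfLe hAN).toEquiv] at h2
  have hrange : Nat.card f.range ∣ 24 := by
    have h1 : Nat.card f.ker * Nat.card f.range = Nat.card (Subgroup.normalizer (E : Set R)) := by
      rw [← Subgroup.index_ker, Subgroup.card_mul_index]
    obtain ⟨k, hk⟩ := hker
    rw [← h1, hk, mul_assoc, mul_comm 24] at hN
    exact (dvd_mul_left _ _).trans (Nat.dvd_of_mul_dvd_mul_left Nat.card_pos hN)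
  -- the torus
  have hpow24 : ∀ a : Fˣ, a ^ 48 = 1 := by
    intro a
    have hg : ψ (ph a) ∈ Subgroup.normalizer (E : Set R) := by
      rw [Subgroup.mem_normalizer_iff]
      have key : ∀ b : Fˣ, ∀ e ∈ E, ψ (ph b) * e * (ψ (ph b))⁻¹ ∈ E := by
        rintro b _ ⟨t, rfl⟩
        refine ⟨Multiplicative.ofAdd ((b : F) ^ 2 * t.toAdd), ?_⟩
        simp only [hφ, MonoidHom.comp_apply]
        rw [← ph_pu, map_mul, map_mul, map_inv]
        rfl
      intro e
      refine ⟨key a e, fun he => ?_⟩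
      have h2 := key a⁻¹ _ he
      have h3 : ψ (ph a⁻¹) * (ψ (ph a) * e * (ψ (ph a))⁻¹) * (ψ (ph a⁻¹))⁻¹ = e := by
        rw [map_inv, map_inv]; group
      rwa [h3] at h2
    have h1 : (⟨ψ (ph a), hg⟩ : Subgroup.normalizer (E : Set R)) ^ 24 ∈ f.ker := by
      rw [MonoidHom.mem_ker, map_pow]
      have h2 : (⟨f ⟨ψ (ph a), hg⟩, ⟨_, rfl⟩⟩ : f.range) ^ 24 = 1 := by
        obtain ⟨k, hk⟩ := hrange
        rw [hk, pow_mul, pow_card_eq_one', one_pow]
      exact congrArg Subtype.val h2
    have h2 : ψ (ph (a ^ 24)) * φ (Multiplicative.ofAdd 1) * (ψ (ph (a ^ 24)))⁻¹ = φ (Multiplicative.ofAdd 1) := by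
      have h3 := DFunLike.congr_fun ((MonoidHom.mem_ker).1 h1) ⟨φ (Multiplicative.ofAdd 1), ⟨_, rfl⟩⟩
      have h4 := congrArg Subtype.val h3
      rw [map_pow, map_pow]
      exact h4
    simp only [hφ, MonoidHom.comp_apply] at h2
    rw [← map_mul, ← map_inv, ← map_mul, ph_pu] at h2
    have h3 := pu_injective (hψ h2)
    have h4 : ((a ^ 24 : Fˣ) : F) ^ 2 * 1 = 1 := h3
    apply Units.ext
    rw [mul_one, ← Units.val_pow_eq_pow_val, ← pow_mul] at h4
    rw [h4]; rfl
  have h48 : p - 1 ∣ 48 := by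
    obtain ⟨g, hg⟩ := IsCyclic.exists_generator (α := Fˣ)
    have h1 : orderOf g = p - 1 := by
      rw [orderOf_eq_card_of_forall_mem_zpowers hg, Nat.card_eq_fintype_card, Fintype.card_units, hFp]
    rw [← h1]
    exact orderOf_dvd_of_pow_eq_one (hpow24 g)
  have hle := Nat.le_of_dvd (by norm_num) h48
  have hpp := hp.out
  have : p ≤ 49 := by omega
  clear hpow24 hrange hker hN hA hEA hAc hFp hEp hcE1 hcE hcyc hE hpow
  interval_cases p <;> first | omega | (exfalso; revert hpp; decide)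

end Cfsg.Agent.H947.El
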