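import Mathlib
import Cfsg.Agent.H947.El.ReeB

/-!
# TEAM ELUSIVE, rank one: the Ree groups (helper947, task 647), the main argument
-/

set_option autoImplicit false
set_option linter.style.haveILetI false
set_option linter.unusedSectionVars false

namespace Cfsg.Agent.H947.El

open MulAction Subgroup Cfsg Cfsg.Agent.H396 Cfsg.Agent.H394.SqBasic

section

variable {R : Type*} [Group R] [Finite R] {m q r ρ : ℕ} (h : ReeF R m q r) (n : ReeN m q r ρ)

include h n

/-- a normal simple subgroup `N` of `M` -/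
theorem ReeF.dvd_of_simple (M : Subgroup R) (hρM : ρ ∣ Nat.card M) (N : Subgroup M) [N.Normal]
    (h4 : 4 ∣ Nat.card N) : ρ ∣ Nat.card N := by
  by_contra hnd
  have hf2 : Fact (Nat.Prime 2) := ⟨Nat.prime_two⟩
  have hfρ : Fact ρ.Prime := ⟨n.pr⟩
  obtain ⟨V⟩ : Nonempty (Sylow 2 N) := inferInstance
  have hF := Sylow.normalizer_sup_eq_top V
  set V1 : Subgroup M := (V : Subgroup N).map N.subtype with hV1
  set H := Subgroup.normalizer (V1 : Set M) with hH
  have h1 : N.index = N.relIndex H := by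
    rw [← Subgroup.relIndex_top_right, ← hF]
    exact Subgroup.relIndex_sup_right H N
  have h2 : ρ ∣ Nat.card H := by
    rw [← N.card_mul_index, h1] at hρM
    exact ((n.pr.dvd_mul.1 hρM).resolve_left hnd).trans (Subgroup.relIndex_dvd_card _ _)
  obtain ⟨y, hy⟩ := exists_prime_orderOf_dvd_card' (G := H) ρ h2
  have hyo : orderOf ((y : M) : R) = ρ := by rw [Subgroup.orderOf_coe, Subgroup.orderOf_coe, hy]
  have hV2 : IsPGroup 2 (V1.map M.subtype) := (V.isPGroup'.map _).map _
  have hyn : ((y : M) : R) ∈ Subgroup.normalizer ((V1.map M.subtype : Subgroup R) : Set R) := by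
    have := Subgroup.le_normalizer_map (H := V1) M.subtype
    exact this ⟨y, y.2, rfl⟩
  have h3 := h.card_sub_one n hyo (Or.inl rfl) hV2 hyn
  have h4' := (h.pow_two_le n hV2).1
  have hc : Nat.card (V1.map M.subtype) = Nat.card V := by
    rw [Subgroup.card_map_of_injective M.subtype_injective, Subgroup.card_map_of_injective N.subtype_injective]
  have h5 : 4 ≤ Nat.card V := by
    rw [V.card_eq_multiplicity]
    have h6 : 2 ≤ (Nat.card N).factorization 2 :=
      (Nat.prime_two.pow_dvd_iff_le_factorization Nat.card_pos.ne').1 (by norm_num; exact h4)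
    calc 4 = 2 ^ 2 := by norm_num
      _ ≤ 2 ^ (Nat.card N).factorization 2 := Nat.pow_le_pow_right (by norm_num) h6
  have h19 := n.q19
  rw [hc] at h3 h4'
  have := Nat.le_of_dvd (by omega) h3
  omega

omit [Finite R] h in
theorem ReeN.small : ¬ ρ ∣ 2 ^ 5 * 3 ^ 3 * 5 * 7 * 11 * 13 * 17 := by
  intro h
  have h19 := n.q19
  have key : ∀ a : ℕ, 0 < a → a < 19 → ¬ ρ ∣ a := fun a h0 h1 h2 => by
    have := Nat.le_of_dvd h0 h2
    omega
  rcases n.pr.dvd_mul.1 h with h | h
  · rcases n.pr.dvd_mul.1 h with h | h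
    · rcases n.pr.dvd_mul.1 h with h | h
      · rcases n.pr.dvd_mul.1 h with h | h
        · rcases n.pr.dvd_mul.1 h with h | h
          · rcases n.pr.dvd_mul.1 h with h | h
            · exact key 2 (by norm_num) (by norm_num) (n.pr.dvd_of_dvd_pow h)
            · exact key 3 (by norm_num) (by norm_num) (n.pr.dvd_of_dvd_pow h)
          · exact key 5 (by norm_num) (by norm_num) h
        · exact key 7 (by norm_num) (by norm_num) h
      · exact key 11 (by norm_num) (by norm_num) h
    · exact key 13 (by norm_num) (by norm_num) h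
  · exact key 17 (by norm_num) (by norm_num) h

theorem ReeF.three_pow_le {a : ℕ} (h3 : 3 ^ a ∣ Nat.card R) : a ≤ 3 * (2 * m + 1) := by
  rw [h.card] at h3
  have h27 := n.q27
  have h4 : Nat.Coprime (3 ^ a) (q - 1) := by
    apply Nat.Coprime.pow_left
    rw [Nat.prime_three.coprime_iff_not_dvd]
    have := n.q3
    omega
  have h5 : Nat.Coprime (3 ^ a) (q ^ 3 + 1) := by
    apply Nat.Coprime.pow_left
    rw [Nat.prime_three.coprime_iff_not_dvd]
    intro h6
    have h7 : 3 ∣ q ^ 3 := n.q3.pow (by norm_num)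
    omega
  have h6 := h4.dvd_of_dvd_mul_right (h5.dvd_of_dvd_mul_right h3)
  rw [h.hq, ← pow_mul] at h6
  have h7 := (Nat.pow_dvd_pow_iff_le_right (by norm_num)).1 h6
  omega

/-- simple groups `N` which are involved: `|N| = |R|`. -/
theorem ReeF.card_of_simple {N : Type*} [Group N] [Finite N] (ι : N →* R) (hι : Function.Injective ι) (hs : IsSimpleGroup N)
    (hna : ¬ IsMulCommutative N) (hρN : ρ ∣ Nat.card N) : Nat.card R ≤ Nat.card N := by
  classical
  have hf2 : Fact (Nat.Prime 2) := ⟨Nat.prime_two⟩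
  have h19 := n.q19
  have h27 := n.q27
  have hdvd : Nat.card N ∣ Nat.card R := by
    rw [Nat.card_congr (MonoidHom.ofInjective hι).toEquiv]
    exact Subgroup.card_subgroup_dvd_card _
  have h16 : ¬ 16 ∣ Nat.card R := by
    intro h1
    obtain ⟨S⟩ : Nonempty (Sylow 2 R) := inferInstance
    have h2 := (h.syl2 S).1
    rw [S.card_eq_multiplicity] at h2
    have h3 : 4 ≤ (Nat.card R).factorization 2 :=
      (Nat.prime_two.pow_dvd_iff_le_factorization Nat.card_pos.ne').1 (by norm_num; exact h1)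
    have h4 : 2 ^ 4 ≤ 2 ^ (Nat.card R).factorization 2 := Nat.pow_le_pow_right (by norm_num) h3
    omega
  obtain ⟨V⟩ : Nonempty (Sylow 2 N) := inferInstance
  have hVab : IsMulCommutative (V : Subgroup N) := by
    refine ⟨⟨fun a b => ?_⟩⟩
    apply Subtype.ext
    apply hι
    have h1 := (h.pow_two_le n (V.isPGroup'.map ι)).2 (ι a) ⟨a, a.2, rfl⟩ (ι b) ⟨b, b.2, rfl⟩
    show ι ((a : N) * b) = ι ((b : N) * a)
    rw [map_mul, map_mul]
    exact h1
  have hbig : ∀ p : ℕ, p.Prime → p < 19 → p ≠ ρ := fun p _ hp he => by omega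
  rcases Cfsg.Agent.S0506.result hna V hVab with ⟨a, ha2, F, _, _, hF, ⟨e⟩⟩ | ⟨F, _, _, hF, ⟨e⟩⟩ | ⟨-, m', hm', hc⟩ | ⟨-, hc⟩
  · -- `PSL₂(2 ^ a)`
    exfalso
    have h1 := Cfsg.Agent.H394.SqPsl2.card_psl (F := F)
    rw [← Nat.card_congr e.toEquiv, hF] at h1
    have hodd : ¬ 2 ∣ 2 ^ a - 1 := by
      have : 2 ∣ 2 ^ a := dvd_pow_self 2 (by omega)
      have : 0 < 2 ^ a := by positivity
      omega
    have hg : Nat.gcd 2 (2 ^ a - 1) = 1 := (Nat.prime_two.coprime_iff_not_dvd).2 hodd
    rw [hg, one_mul] at h1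
    have ha3 : a ≤ 3 := by
      by_contra h3
      apply h16
      refine dvd_trans ?_ hdvd
      rw [h1]
      exact dvd_mul_of_dvd_left (by
        calc (16 : ℕ) = 2 ^ 4 := by norm_num
          _ ∣ 2 ^ a := pow_dvd_pow 2 (by omega)) _
    rw [h1] at hρN
    have h60 : ρ ∣ 60 * 504 := by
      have : a = 2 ∨ a = 3 := by omega
      rcases this with rfl | rfl
      · exact hρN.trans ⟨504, by norm_num⟩
      · exact hρN.trans ⟨60, by norm_num⟩
    exact n.small (h60.trans ⟨2431, by norm_num⟩)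
  · -- `PSL₂(F)`
    exfalso
    have h1 := Cfsg.Agent.H394.SqPsl2.card_psl (F := F)
    rw [← Nat.card_congr e.toEquiv] at h1
    obtain ⟨p, hchar⟩ := CharP.exists F
    have hp : Fact p.Prime := ⟨CharP.char_is_prime F p⟩
    obtain ⟨f, hpf, hf⟩ := FiniteField.card F p
    have hf0 := f.pos
    have hg : Nat.gcd 2 (Fintype.card F - 1) = 2 := Nat.gcd_eq_left (by omega)
    rw [hg] at h1
    have hρ2 : ρ ∣ Fintype.card F * (Fintype.card F ^ 2 - 1) := h1 ▸ hρN.mul_left _
    rcases Nat.lt_or_ge 3 p with h3p | hp3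
    · obtain ⟨hFp, hp4⟩ := h.psl_case h3p (ι.comp e.symm.toMonoidHom) (hι.comp e.symm.injective)
      rw [hFp] at hρ2
      rcases hp4 with rfl | rfl | rfl | rfl
      · exact n.small (hρ2.trans (by norm_num))
      · exact n.small (hρ2.trans (by norm_num))
      · exact n.small (hρ2.trans (by norm_num))
      · exact n.small (hρ2.trans (by norm_num))
    · have hp23 : p = 2 ∨ p = 3 := by
        have := hp.out.two_le
        omega
      rcases hp23 with rfl | rfl
      · have : 2 ∣ Fintype.card F := by rw [hf]; exact dvd_pow_self 2 hf0.ne'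
        omega
      · obtain ⟨f, hf0'⟩ := f
        simp only [PNat.mk_coe] at hf hf0
        have hρf : ρ ∣ Fintype.card F ^ 2 - 1 := by
          refine (n.pr.dvd_mul.1 hρ2).resolve_left fun h2 => ?_
          rw [hf] at h2
          have := (n.pr.dvd_of_dvd_pow h2)
          have := Nat.le_of_dvd (by norm_num) this
          omega
        rw [hf, ← pow_mul, n.iff] at hρf
        have h2 := Nat.le_of_dvd (by omega) hρf
        have h3 : 3 ^ f ∣ Nat.card N := by
          have h4 : 3 ^ f ∣ 2 * Nat.card N := by rw [h1, hf]; exact dvd_mul_right _ _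
          exact (Nat.Coprime.pow_left f (by norm_num)).dvd_of_dvd_mul_left h4
        have h4 := h.three_pow_le n (h3.trans hdvd)
        have hfe : f = 3 * (2 * m + 1) := by omega
        have hFq : Fintype.card F = q ^ 3 := by
          rw [hf, h.hq, ← pow_mul, hfe, mul_comm]
        have h5 := Nat.le_of_dvd Nat.card_pos hdvd
        rw [h.card] at h5
        rw [hFq] at h1
        have h6 : (q ^ 3) ^ 2 - 1 = (q ^ 3 + 1) * (q ^ 3 - 1) := by
          have := Nat.sq_sub_sq (q ^ 3) 1
          rwa [one_pow] at this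
        rw [h6] at h1
        have h7 : q ^ 3 * ((q ^ 3 + 1) * (q ^ 3 - 1)) ≤ 2 * (q ^ 3 * (q - 1) * (q ^ 3 + 1)) := by
          rw [← h1]; exact Nat.mul_le_mul_left 2 h5
        have h8 : q ^ 3 * ((q ^ 3 + 1) * (q ^ 3 - 1)) = (q ^ 3 * (q ^ 3 + 1)) * (q ^ 3 - 1) := by ring
        have h9 : 2 * (q ^ 3 * (q - 1) * (q ^ 3 + 1)) = (q ^ 3 * (q ^ 3 + 1)) * (2 * (q - 1)) := by ring
        rw [h8, h9] at h7
        have h10 := Nat.le_of_mul_le_mul_left h7 (by positivity)
        have h11 : q ^ 3 = q * q * q := by ring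
        have h12 : 27 * 27 * q ≤ q * q * q := Nat.mul_le_mul_right q (Nat.mul_le_mul h27 h27)
        omega
  · -- Ree
    rw [hc] at hρN ⊢
    obtain ⟨s, hs⟩ : ∃ s, s = 3 ^ (2 * m' + 1) := ⟨_, rfl⟩
    rw [← hs] at hρN ⊢
    have hρs : ρ ∣ s ^ 6 - 1 := by
      have h2 : s ^ 6 - 1 = (s ^ 3 + 1) * (s ^ 3 - 1) := by
        have := Nat.sq_sub_sq (s ^ 3) 1
        rwa [one_pow, ← pow_mul] at this
      rw [h2]
      rcases n.pr.dvd_mul.1 hρN with h3 | h3
      · rcases n.pr.dvd_mul.1 h3 with h4 | h4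
        · exfalso
          have h5 := n.pr.dvd_of_dvd_pow h4
          rw [hs] at h5
          have := Nat.le_of_dvd (by norm_num) (n.pr.dvd_of_dvd_pow h5)
          omega
        · exact h4.mul_right _
      · have h4 : s - 1 ∣ s ^ 3 - 1 := by
          have := Nat.sub_dvd_pow_sub_pow s 1 3
          rwa [one_pow] at this
        exact (h3.trans h4).mul_left _
    rw [hs, ← pow_mul, n.iff] at hρs
    have h3 := Nat.le_of_dvd (by omega) hρs
    have hqs : q ≤ s := by
      rw [h.hq, hs]
      exact Nat.pow_le_pow_right (by norm_num) (by omega)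
    rw [h.card]
    have h4 : q ^ 3 ≤ s ^ 3 := Nat.pow_le_pow_left hqs 3
    calc q ^ 3 * (q - 1) * (q ^ 3 + 1) ≤ s ^ 3 * (s - 1) * (s ^ 3 + 1) :=
          Nat.mul_le_mul (Nat.mul_le_mul h4 (by omega)) (by omega)
      _ = s ^ 3 * (s ^ 3 + 1) * (s - 1) := by ring
  · -- `J₁`
    exfalso
    rw [hc] at hρN hdvd
    have h2 : ρ = 19 := by
      have h3 : ρ ∣ 9240 * 19 := by norm_num; exact hρN
      rcases n.pr.dvd_mul.1 h3 with h4 | h4
      · exact absurd (h4.trans (by norm_num)) n.small
      · exact (Nat.prime_dvd_prime_iff_eq n.pr (by norm_num)).1 h4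
    have hm := h.hm
    have hge := n.ge
    have hm1 : m = 1 := by omega
    have hq : q = 27 := by rw [h.hq, hm1]; norm_num
    rw [h.card, hq] at hdvd
    revert hdvd
    norm_num

/-- **the main theorem on `²G₂(q)`** -/
theorem ReeF.eq_top (M : Subgroup R) (hall : ∀ p : ℕ, p.Prime → p ∣ Nat.card R → p ∣ Nat.card M) : M = ⊤ := by
  classical
  have hf2 : Fact (Nat.Prime 2) := ⟨Nat.prime_two⟩
  have hρR : ρ ∣ Nat.card R := by rw [h.card, n.cube]; exact (n.dvd.mul_left _).mul_left _
  have hρM := hall ρ n.pr hρR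
  have h19 := n.q19
  have h16 : ¬ 16 ∣ Nat.card R := by
    intro h1
    obtain ⟨S⟩ : Nonempty (Sylow 2 R) := inferInstance
    have h2 := (h.syl2 S).1
    rw [S.card_eq_multiplicity] at h2
    have h3 : 4 ≤ (Nat.card R).factorization 2 :=
      (Nat.prime_two.pow_dvd_iff_le_factorization Nat.card_pos.ne').1 (by norm_num; exact h1)
    have h4 : 2 ^ 4 ≤ 2 ^ (Nat.card R).factorization 2 := Nat.pow_le_pow_right (by norm_num) h3
    omega
  have hnt : Nontrivial M := by
    rw [← Finite.one_lt_card_iff_nontrivial]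
    have := Nat.le_of_dvd Nat.card_pos hρM
    omega
  obtain ⟨N, hN, hN1, hmin⟩ := Cfsg.Agent.Lib.SubnormalJoin.exists_minimal_normal M
  obtain ⟨T, k, hTN, hTs, hk, ⟨e⟩⟩ := Cfsg.Agent.Lib.MinNormal.exists_mulEquiv_pi N hN1 hmin
  by_cases hT : IsMulCommutative T
  · exfalso
    have hab : ∀ x ∈ N, ∀ y ∈ N, Commute x y := by
      intro x hx y hy
      have h1 : (⟨x, hx⟩ : N) * ⟨y, hy⟩ = ⟨y, hy⟩ * ⟨x, hx⟩ := by
        apply e.injective
        rw [map_mul, map_mul]
        funext i
        exact hT.is_comm.comm _ _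
      exact congrArg Subtype.val h1
    obtain ⟨p, hp, hpN, hexp⟩ := Cfsg.Agent.Lib.MinNormalNonabelian.abelian_structure N hN1 hmin hab
    refine h.not_elem n M hall hp (E := N.map M.subtype) (hpN.map _) ?_ ?_ ?_
    · intro hb
      rw [Subgroup.map_eq_bot_iff_of_injective _ M.subtype_injective] at hb
      exact hN1 hb
    · rintro _ ⟨x, hx, rfl⟩
      rw [← map_pow, hexp x hx, map_one]
    · have h1 := Subgroup.le_normalizer_map (H := N) M.subtype
      rw [Subgroup.normalizer_eq_top N, ← MonoidHom.range_eq_map, Subgroup.range_subtype] at h1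
      exact h1
  · have hTns : ¬ Group.IsSolvable T := by
      intro h1
      have h2 := IsSimpleGroup.comm_iff_isSolvable (G := T) |>.2 h1
      exact hT ⟨⟨h2⟩⟩
    have h4T : 4 ∣ Nat.card T := by
      by_contra h4
      exact hTns (Cfsg.Agent.CpAut.SmallP.isSolvable_of_not_four_dvd h4)
    have hcN : Nat.card N = Nat.card T ^ k := by
      rw [Nat.card_congr e.toEquiv, Nat.card_pi, Finset.prod_const, Finset.card_univ, Fintype.card_fin]
    have hNR : Nat.card N ∣ Nat.card R := (Subgroup.card_subgroup_dvd_card N).trans (Subgroup.card_subgroup_dvd_card M)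
    have hk1 : k = 1 := by
      by_contra hk1
      apply h16
      refine dvd_trans ?_ hNR
      rw [hcN]
      calc 16 = 4 ^ 2 := by norm_num
        _ ∣ Nat.card T ^ 2 := pow_dvd_pow_of_dvd h4T 2
        _ ∣ Nat.card T ^ k := pow_dvd_pow _ (by omega)
    subst hk1
    have e' : T ≃* N := ((MulEquiv.piUnique (fun _ : Fin 1 => T)).symm).trans e.symm
    have hNs : IsSimpleGroup N := e'.symm.isSimpleGroup
    have hNna : ¬ IsMulCommutative N := by
      intro h1
      apply hT
      refine ⟨⟨fun a b => ?_⟩⟩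
      apply e'.injective
      rw [map_mul, map_mul]
      exact h1.is_comm.comm _ _
    have h4N : 4 ∣ Nat.card N := by rw [hcN, pow_one]; exact h4T
    have hρN := h.dvd_of_simple n M hρM N h4N
    have h5 := h.card_of_simple n (M.subtype.comp N.subtype) (M.subtype_injective.comp N.subtype_injective) hNs hNna hρN
    have h6 : Nat.card N ≤ Nat.card M := Subgroup.card_le_card_group N
    exact Subgroup.eq_top_of_le_card M (h5.trans h6)

end

end Cfsg.Agent.H947.El
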