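import Mathlib
import Cfsg.Agent.H947.El.ReeC
import Cfsg.Agent.S1069
import Cfsg.Agent.S1152
import Cfsg.Agent.S1156
import Cfsg.Agent.S1157
import Cfsg.Agent.S1158
import Cfsg.Agent.S1159
import Cfsg.Agent.S2358

/-!
# TEAM ELUSIVE, rank one: the Ree groups (helper947, task 647)

* `der_ree` : every proper subgroup of `²G₂(q)` misses an `Aut`-class of elements of prime order
* `clMaxA_ree`
-/

set_option autoImplicit false
set_option linter.style.haveILetI false

namespace Cfsg.Agent.H947.El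

open MulAction Subgroup Cfsg Cfsg.Agent.H396

theorem isCyclic_of_le {G : Type*} [Group G] {A B : Subgroup G} (hB : IsCyclic B) (h : A ≤ B) : IsCyclic A :=
  isCyclic_of_injective (Subgroup.inclusion h) (Subgroup.inclusion_injective h)

theorem reeF {K : Type*} [Field K] [Fintype K] {m : ℕ} (hm : 1 ≤ m) (hK : Fintype.card K = 3 ^ (2 * m + 1))
    {ρ : ℕ} (n : ReeN m (3 ^ (2 * m + 1)) (3 ^ (m + 1)) ρ) :
    ReeF ↥(Cfsg.Lie.twistedG2 K (3 ^ m)) m (3 ^ (2 * m + 1)) (3 ^ (m + 1)) := by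
  have hcard := Cfsg.Agent.S1069.result hK
  have hfin : Finite ↥(Cfsg.Lie.twistedG2 K (3 ^ m)) := inferInstance
  obtain ⟨q, hq⟩ : ∃ q, q = 3 ^ (2 * m + 1) := ⟨_, rfl⟩
  obtain ⟨r, hr⟩ : ∃ r, r = 3 ^ (m + 1) := ⟨_, rfl⟩
  refine ⟨hm, rfl, rfl, hcard, ?_, ?_, fun g => (Cfsg.Agent.S1159.result hm hK (orderOf g)).1 ⟨g, rfl⟩, ?_⟩
  · obtain ⟨a, haH, ha1, ha2⟩ := Cfsg.Agent.S1157.exists_involution hK
    exact (Cfsg.Agent.S1152.result hK a haH ha1 ha2).2
  · intro p hp h3 E hE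
    have : Fact p.Prime := ⟨hp⟩
    obtain ⟨P, hP⟩ := hE.exists_le_sylow
    exact isCyclic_of_le (Cfsg.Agent.S1156.result hm hK h3 P) hP
  · intro p hp h3 E hE
    have : Fact p.Prime := ⟨hp⟩
    have hpR : p ∣ Nat.card ↥(Cfsg.Lie.twistedG2 K (3 ^ m)) := hE ▸ Subgroup.card_subgroup_dvd_card E
    rw [hcard] at hpR
    have h1158 := Cfsg.Agent.S1158.result hm hK
    have h2358 := Cfsg.Agent.S2358.result hm hK p
    rw [← hq] at n hpR ⊢
    rw [← hq, ← hr] at h1158 h2358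
    rw [← hr] at n ⊢
    have hq4 := n.q4
    have hq2 : (q - 1) / 2 * 2 = q - 1 := by omega
    have hq4' : (q + 1) / 4 * 4 = q + 1 := by omega
    have hor : p ∣ (q - 1) / 2 ∨ p ∣ (q + 1) / 4 ∨ p ∣ q - r + 1 ∨ p ∣ q + r + 1 := by
      have h2 : ¬ p ∣ 2 := fun h => by have := Nat.le_of_dvd (by norm_num) h; omega
      have h4 : ¬ p ∣ 4 := fun h => h2 (hp.dvd_of_dvd_pow (n := 2) (by norm_num; exact h))
      have h3' : ¬ p ∣ 3 := fun h => by have := Nat.le_of_dvd (by norm_num) h; omega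
      rcases hp.dvd_mul.1 hpR with h1 | h1
      · rcases hp.dvd_mul.1 h1 with h1 | h1
        · exfalso
          have h5 := hp.dvd_of_dvd_pow h1
          rw [hq] at h5
          exact h3' (hp.dvd_of_dvd_pow h5)
        · left
          rw [← hq2] at h1
          exact (hp.dvd_mul.1 h1).resolve_right h2
      · rw [n.cube, n.fac] at h1
        rcases hp.dvd_mul.1 h1 with h1 | h1
        · right; left
          rw [← hq4'] at h1
          exact (hp.dvd_mul.1 h1).resolve_right h4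
        · right; right
          exact hp.dvd_mul.1 h1
    obtain ⟨k, l, hkl, hpk, hkl2⟩ : ∃ k l : ℕ, (k, l) ∈ ({((q - 1) / 2, 2 * (q - 1)), ((q + 1) / 4, 6 * (q + 1)),
        (q - r + 1, 6 * (q - r + 1)), (q + r + 1, 6 * (q + r + 1))} : Set (ℕ × ℕ)) ∧ p ∣ k ∧
        ((2 * k = q - 1 ∧ l = 4 * k) ∨ (4 * k = q + 1 ∧ l = 24 * k) ∨ ((k = q - r + 1 ∨ k = q + r + 1) ∧ l = 6 * k)) := by
      rcases hor with h1 | h1 | h1 | h1
      · exact ⟨(q - 1) / 2, 2 * (q - 1), by simp, h1, Or.inl ⟨by omega, by omega⟩⟩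
      · exact ⟨(q + 1) / 4, 6 * (q + 1), by simp, h1, Or.inr (Or.inl ⟨by omega, by omega⟩)⟩
      · exact ⟨q - r + 1, 6 * (q - r + 1), by simp, h1, Or.inr (Or.inr ⟨Or.inl rfl, rfl⟩)⟩
      · exact ⟨q + r + 1, 6 * (q + r + 1), by simp, h1, Or.inr (Or.inr ⟨Or.inr rfl, rfl⟩)⟩
    obtain ⟨A, hAc, hAk, hAn, hA0⟩ := h1158 (k, l) hkl
    simp only at hAk hAn
    obtain ⟨x, hx⟩ := exists_prime_orderOf_dvd_card' (G := A) p (by rw [hAk]; exact hpk)
    have hBA : zpowers (x : ↥(Cfsg.Lie.twistedG2 K (3 ^ m))) ≤ A := by rw [zpowers_le]; exact x.2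
    have hBc : Nat.card (zpowers (x : ↥(Cfsg.Lie.twistedG2 K (3 ^ m)))) = p := by
      rw [Nat.card_zpowers, Subgroup.orderOf_coe, hx]
    have hEc : IsCyclic E := isCyclic_of_prime_card hE
    obtain ⟨g, hg⟩ := h2358 hor (zpowers (x : ↥(Cfsg.Lie.twistedG2 K (3 ^ m)))) E inferInstance hEc hBc hE
    have hB1 : zpowers (x : ↥(Cfsg.Lie.twistedG2 K (3 ^ m))) ≠ ⊥ := by
      intro hb
      rw [hb, Subgroup.card_bot] at hBc
      omega
    have hBn := hA0 _ hBA hB1
    refine ⟨A.map (MulAut.conj g).toMonoidHom, ?_, ?_, ?_⟩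
    · exact isCyclic_of_surjective (A.equivMapOfInjective _ (MulAut.conj g).injective)
        (A.equivMapOfInjective _ (MulAut.conj g).injective).surjective
    · rw [hg]; exact Subgroup.map_mono hBA
    · have hcA : Nat.card (A.map (MulAut.conj g).toMonoidHom) = k := by
        rw [Subgroup.card_map_of_injective (MulAut.conj g).injective, hAk]
      have hcN : Nat.card (Subgroup.normalizer (E : Set ↥(Cfsg.Lie.twistedG2 K (3 ^ m)))) = l := by
        rw [hg, ← Subgroup.map_normalizer_eq_of_bijective _ (f := (MulAut.conj g).toMonoidHom) (MulAut.conj g).bijective,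
          Subgroup.card_map_of_injective (MulAut.conj g).injective, hBn, hAn]
      rw [hcA, hcN]
      exact hkl2

/-- **the Ree groups**: every proper subgroup misses an `Aut`-class of elements of prime order. -/
theorem der_ree {T : Type*} [Group T] (h : Cfsg.Lie.IsoRee T) (M : Subgroup T) (hM : M ≠ ⊤) : Der T M := by
  obtain ⟨K, iK, iK', m, hm, hK, ⟨e⟩⟩ := h
  obtain ⟨ρ, n⟩ := exists_reeN m hm
  have F := reeF hm hK n
  have hfin : Finite ↥(Cfsg.Lie.twistedG2 K (3 ^ m)) := inferInstance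
  have hfT : Finite T := Finite.of_equiv _ e.symm.toEquiv
  refine Der.congr e.symm ?_
  by_contra hD
  have h1 := F.eq_top n (M.comap e.symm.toMonoidHom) fun p hp hpd =>
    Cfsg.Agent.H394.SqBasic.prime_dvd_card_of_not_der hD hp hpd
  apply hM
  rw [eq_top_iff]
  intro x _
  have : e x ∈ M.comap e.symm.toMonoidHom := by rw [h1]; trivial
  simpa using this

theorem clMaxA_ree {T : Type*} [Group T] (h : Cfsg.Lie.IsoRee T) : Cfsg.Agent.H278.El.ClMaxA T :=
  fun M hM => der_ree h M hM.1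

end Cfsg.Agent.H947.El
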